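import Cfsg.Agent.Lib.Golay.Model

/-! Cosets of binary `[24, 12, 8]` codes and the uniqueness of the Golay code. -/

set_option autoImplicit false
set_option maxRecDepth 100000
set_option maxHeartbeats 400000

namespace Cfsg.Lib.Golay

open MulAction Spor
open scoped Pointwise symmDiff

section general
variable {α : Type*} [Fintype α] [DecidableEq α] {C : Submodule (ZMod 2) (α → ZMod 2)}

omit [Fintype α] [DecidableEq α] in
theorem sub_eq_add₂ (u w : α → ZMod 2) : u - w = u + w := by
  funext a; exact (by decide : ∀ x y : ZMod 2, x - y = x + y) _ _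

theorem sub_mem_code_iff {u w : α → ZMod 2} :
    u - w ∈ C ↔ support₂ u ∆ support₂ w ∈ supports (C : Set (α → ZMod 2)) := by
  rw [← support₂_add, support₂_mem_supports_iff, sub_eq_add₂]; rfl

theorem symmDiff_mem_supports {s t : Finset α} (hs : s ∈ supports (C : Set (α → ZMod 2)))
    (ht : t ∈ supports (C : Set (α → ZMod 2))) : s ∆ t ∈ supports (C : Set (α → ZMod 2)) := by
  rw [mem_supports_iff] at *; rw [ind_symmDiff]; exact add_mem hs ht

theorem symmDiff_trans {s t w : Finset α} (hs : s ∆ w ∈ supports (C : Set (α → ZMod 2)))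
    (ht : t ∆ w ∈ supports (C : Set (α → ZMod 2))) : s ∆ t ∈ supports (C : Set (α → ZMod 2)) := by
  have := symmDiff_mem_supports hs ht
  rwa [symmDiff_symmDiff_symmDiff_comm, symmDiff_self, symmDiff_bot] at this

theorem min_supports (hmin : ∀ w ∈ C, w ≠ 0 → 8 ≤ hammingNorm w) {s t : Finset α}
    (h : s ∆ t ∈ supports (C : Set (α → ZMod 2))) (hne : s ≠ t) :
    8 + 2 * (s ∩ t).card ≤ s.card + t.card := by
  have := hmin _ (mem_supports_iff.mp h) fun e => hne (symmDiff_eq_bot.mp (by
    rw [← support₂_ind (s ∆ t), e, ← ind_empty, support₂_ind]; rfl))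
  rw [hammingNorm_eq_card, support₂_ind] at this
  have := card_symmDiff_add s t
  omega

omit [Fintype α] in
theorem card_tetrads {T : Finset (Finset α)} (h4 : ∀ t ∈ T, t.card = 4)
    (hd : ∀ t ∈ T, ∀ u ∈ T, t ≠ u → Disjoint t u) : (T.biUnion id).card = T.card * 4 := by
  rw [Finset.card_biUnion (t := id) fun t ht u hu e => hd t ht u hu e]
  exact (Finset.sum_congr rfl h4).trans (by simp)

theorem exists_leader (hα : Fintype.card α = 24) (hdim : Module.finrank (ZMod 2) C = 12)
    (hmin : ∀ w ∈ C, w ≠ 0 → 8 ≤ hammingNorm w) (w : Finset α) :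
    ∃ u : Finset α, u.card ≤ 4 ∧ u ∆ w ∈ supports (C : Set (α → ZMod 2)) := by
  classical
  let q : Finset α → (α → ZMod 2) ⧸ C := fun s => C.mkQ (ind s)
  have hq : ∀ s t, q s = q t ↔ s ∆ t ∈ supports (C : Set (α → ZMod 2)) := fun s t => by
    rw [← support₂_ind s, ← support₂_ind t, ← sub_mem_code_iff, support₂_ind, support₂_ind]
    exact Submodule.Quotient.eq C
  have : Finite ((α → ZMod 2) ⧸ C) := Finite.of_surjective _ C.mkQ_surjective
  have := Fintype.ofFinite ((α → ZMod 2) ⧸ C)
  have hc : Fintype.card ((α → ZMod 2) ⧸ C) = 4096 := by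
    have := C.finrank_quotient_add_finrank
    rw [hdim, Module.finrank_fintype_fun_eq_card, hα] at this
    rw [Module.card_eq_pow_finrank (K := ZMod 2), ZMod.card, show Module.finrank (ZMod 2) _ = 12 by omega]
    norm_num
  let A := (Finset.range 4).biUnion fun k => Finset.powersetCard k (Finset.univ : Finset α)
  have hA : ∀ s, s ∈ A ↔ s.card ≤ 3 := fun s => by simp [A, Nat.lt_succ_iff]
  have h1 : (A.image q).card = 2325 := by
    rw [Finset.card_image_of_injOn fun s hs t ht e => by
      by_contra hne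
      have := min_supports hmin ((hq s t).mp e) hne
      have := (hA s).mp hs; have := (hA t).mp ht; omega]
    rw [Finset.card_biUnion fun i _ j _ e => Finset.pairwise_disjoint_powersetCard _ e]
    simp only [Finset.card_powersetCard, Finset.card_univ, hα]; decide +kernel
  have h2 := Finset.card_le_mul_card_image (f := q) (Finset.powersetCard 4 Finset.univ) 6 fun b _ => by
    have := card_tetrads (T := (Finset.powersetCard 4 Finset.univ).filter fun s => q s = b)
      (fun t ht => by simp at ht; exact ht.1) fun t ht u hu e => by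
        simp at ht hu
        have := min_supports hmin ((hq t u).mp (ht.2.trans hu.2.symm)) e
        rw [Finset.disjoint_iff_inter_eq_empty, ← Finset.card_eq_zero]; omega
    have h3 := Finset.card_le_univ (((Finset.powersetCard 4 Finset.univ).filter
      fun s => q s = b).biUnion id)
    omega
  rw [Finset.card_powersetCard, Finset.card_univ, hα, show Nat.choose 24 4 = 10626 by decide +kernel] at h2
  have h3 : A.image q ∪ (Finset.powersetCard 4 Finset.univ).image q = Finset.univ := by
    refine Finset.eq_univ_of_card _ (le_antisymm (Finset.card_le_univ _) ?_)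
    rw [Finset.card_union_of_disjoint, hc, h1]
    · omega
    · rw [Finset.disjoint_left]
      simp only [Finset.mem_image, hA, Finset.mem_powersetCard_univ]
      rintro _ ⟨s, hs, rfl⟩ ⟨t, ht, e⟩
      have := min_supports hmin ((hq t s).mp e) (by rintro rfl; omega)
      omega
  have h4 := Finset.mem_univ (q w)
  rw [← h3] at h4
  simp only [Finset.mem_union, Finset.mem_image, hA, Finset.mem_powersetCard_univ, hq] at h4
  rcases h4 with ⟨s, h, h'⟩ | ⟨s, h, h'⟩
  exacts [⟨s, by omega, h'⟩, ⟨s, h.le, h'⟩]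

theorem dotp_supports (horth : ∀ v ∈ C, ∀ w ∈ C, ∑ i, v i * w i = 0) {s t : Finset α}
    (hs : s ∈ supports (C : Set (α → ZMod 2))) (ht : t ∈ supports (C : Set (α → ZMod 2))) :
    dotp s t = 0 := by
  rw [dotp, ← sum_ind_mul_ind]; exact horth _ (mem_supports_iff.mp hs) _ (mem_supports_iff.mp ht)

theorem steiner_of_code (hα : Fintype.card α = 24) (hdim : Module.finrank (ZMod 2) C = 12)
    (horth : ∀ v ∈ C, ∀ w ∈ C, ∑ i, v i * w i = 0) (hmin : ∀ w ∈ C, w ≠ 0 → 8 ≤ hammingNorm w) :
    IsSteinerSystem 5 8 (wordsOfWeight (C : Set (α → ZMod 2)) 8) := by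
  refine ⟨fun _ h => h.2, fun s hs => ?_⟩
  obtain ⟨u, hu, h⟩ := exists_leader hα hdim hmin s
  have h1 := min_supports hmin h (by rintro rfl; omega)
  have h2 := card_symmDiff_add u s
  have h3 := dotp_eq_zero_iff.mp (dotp_supports horth h h)
  rw [Finset.inter_self, Nat.even_iff] at h3
  have h4 : u ∩ s = ∅ := Finset.card_eq_zero.mp (by omega)
  refine ⟨u ∆ s, ⟨⟨h, by omega⟩, fun p hp => Finset.mem_symmDiff.mpr (Or.inr ⟨hp, fun h' => ?_⟩)⟩, ?_⟩
  · exact Finset.notMem_empty p (h4 ▸ Finset.mem_inter.mpr ⟨h', hp⟩)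
  · rintro b ⟨hb, hsb⟩
    by_contra hne
    have h5 := min_supports hmin (symmDiff_mem_supports hb.1 h) hne
    have h6 : s ⊆ b ∩ u ∆ s := fun p hp => Finset.mem_inter.mpr ⟨hsb hp, Finset.mem_symmDiff.mpr
      (Or.inr ⟨hp, fun h' => Finset.notMem_empty p (h4 ▸ Finset.mem_inter.mpr ⟨h', hp⟩)⟩)⟩
    have := Finset.card_le_card h6
    have := hb.2
    omega

/-- the words of weight at most four in a coset. -/
theorem coset_leaders (hα : Fintype.card α = 24) (hdim : Module.finrank (ZMod 2) C = 12)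
    (horth : ∀ v ∈ C, ∀ w ∈ C, ∑ i, v i * w i = 0) (hmin : ∀ w ∈ C, w ≠ 0 → 8 ≤ hammingNorm w)
    (w : α → ZMod 2) : (∃ u, {u | u - w ∈ C ∧ hammingNorm u ≤ 4} = {u} ∧ hammingNorm u ≤ 3) ∨
    ({u | u - w ∈ C ∧ hammingNorm u ≤ 4}.ncard = 6 ∧ ∀ u ∈ {u | u - w ∈ C ∧ hammingNorm u ≤ 4},
      hammingNorm u = 4 ∧ ∀ u' ∈ {u | u - w ∈ C ∧ hammingNorm u ≤ 4}, u ≠ u' →
        Disjoint (support₂ u) (support₂ u')) := by
  simp only [sub_mem_code_iff, hammingNorm_eq_card, Set.mem_setOf_eq]
  have key : ∀ u v : α → ZMod 2, support₂ u ∆ support₂ w ∈ supports (C : Set (α → ZMod 2)) →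
      support₂ v ∆ support₂ w ∈ supports (C : Set (α → ZMod 2)) → u ≠ v →
      8 + 2 * (support₂ u ∩ support₂ v).card ≤ (support₂ u).card + (support₂ v).card :=
    fun u v hu hv e => min_supports hmin (symmDiff_trans hu hv) (support₂_injective.ne e)
  obtain ⟨t, ht, h⟩ := exists_leader hα hdim hmin (support₂ w)
  rw [← support₂_ind t] at ht h
  generalize ind t = t at ht h
  by_cases h3 : (support₂ t).card ≤ 3
  · refine Or.inl ⟨t, Set.eq_singleton_iff_unique_mem.mpr ⟨⟨h, ht⟩, fun u hu => ?_⟩, h3⟩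
    by_contra hne
    have := key u t hu.1 h hne
    have := hu.2
    omega
  have h4 : ∀ u, support₂ u ∆ support₂ w ∈ supports (C : Set (α → ZMod 2)) ∧ (support₂ u).card ≤ 4 →
      (support₂ u).card = 4 := fun u hu => by
    by_cases e : u = t
    · rw [e]; omega
    · have := key u t hu.1 h e; omega
  have h5 : ∀ u, support₂ u ∆ support₂ w ∈ supports (C : Set (α → ZMod 2)) ∧ (support₂ u).card ≤ 4 →
      ∀ v, support₂ v ∆ support₂ w ∈ supports (C : Set (α → ZMod 2)) ∧ (support₂ v).card ≤ 4 →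
      u ≠ v → Disjoint (support₂ u) (support₂ v) := fun u hu v hv e => by
    have := key u v hu.1 hv.1 e
    rw [Finset.disjoint_iff_inter_eq_empty, ← Finset.card_eq_zero]; omega
  refine Or.inr ⟨?_, fun u hu => ⟨h4 u hu, h5 u hu⟩⟩
  classical
  rw [← Set.ncard_image_of_injective _ support₂_injective, Set.ncard_eq_toFinset_card _ (Set.toFinite _)]
  generalize hT : Set.Finite.toFinset (s := support₂ (α := α) '' _) _ = T
  have hT' : ∀ s, s ∈ T ↔ ∃ u, (support₂ u ∆ support₂ w ∈ supports (C : Set (α → ZMod 2)) ∧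
    (support₂ u).card ≤ 4) ∧ support₂ u = s := fun s => by rw [← hT, Set.Finite.mem_toFinset]; rfl
  have h6 := card_tetrads (T := T) (fun s hs => by obtain ⟨u, hu, rfl⟩ := (hT' s).mp hs; exact h4 u hu)
    fun s hs s' hs' e => by
      obtain ⟨u, hu, rfl⟩ := (hT' s).mp hs
      obtain ⟨v, hv, rfl⟩ := (hT' s').mp hs'
      exact h5 u hu v hv fun e' => e (by rw [e'])
  rw [show T.biUnion id = Finset.univ from Finset.eq_univ_of_forall fun p => ?_, Finset.card_univ, hα] at h6
  · omega
  by_cases hp : p ∈ support₂ t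
  · exact Finset.mem_biUnion.mpr ⟨_, (hT' _).mpr ⟨t, ⟨h, ht⟩, rfl⟩, hp⟩
  obtain ⟨o, ho, h7⟩ := steiner_exists (steiner_of_code hα hdim horth hmin)
    (s := insert p (support₂ t)) (by rw [Finset.card_insert_of_notMem hp]; omega)
  have h8 := card_symmDiff_add o (support₂ t)
  rw [Finset.inter_eq_right.mpr ((Finset.subset_insert _ _).trans h7), ho.2] at h8
  refine Finset.mem_biUnion.mpr ⟨o ∆ support₂ t, (hT' _).mpr ⟨ind _, ?_, support₂_ind _⟩,
    Finset.mem_symmDiff.mpr (Or.inl ⟨h7 (Finset.mem_insert_self _ _), hp⟩)⟩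
  rw [support₂_ind, symmDiff_assoc]
  exact ⟨symmDiff_mem_supports ho.1 h, by omega⟩

end general

/-- induction over the Golay code from its octads. -/
theorem cw_induction {P : Finset GolayPt → Prop} (h8 : ∀ o ∈ octads, P o)
    (hx : ∀ s t, P s → P t → P (s ∆ t)) {s : Finset GolayPt} (hs : s ∈ cw) : P s := by
  obtain ⟨m, hm, rfl⟩ := exists_isCw hs
  have h : ∀ a b, P (om a) → P (om b) → P (om (a ^^^ b)) := fun a b ha hb => om_xor a b ▸ hx _ _ ha hb
  have h' : ∀ m, isOct m = true → P (om m) := fun m hm => h8 _ (om_mem_octads hm)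
  refine isCw_induction (P := fun m => P (om m)) ?_ ?_ (fun t ht => ?_) h hm
  · exact h _ _ (h' 0x82402f (by decide +kernel)) (h' 0x82402f (by decide +kernel))
  · exact h _ _ (h _ _ (h' 0x82402f (by decide +kernel)) (h' 0x149f00 (by decide +kernel)))
      (h' 0x6920d0 (by decide +kernel))
  · have := allN_iff.mp octads_span_check t ht
    rw [band_iff] at this
    simpa using h _ _ (h' _ this.1) (h' _ this.2)

theorem finrank_golay : Module.finrank (ZMod 2) golayCode = 12 := by
  have h := Module.natCard_eq_pow_finrank (K := ZMod 2) (V := golayCode)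
  rw [show Nat.card golayCode = 4096 by
    rw [← ncard_cw_all, cw, supports, Set.ncard_image_of_injective _ support₂_injective]; rfl,
    Nat.card_zmod] at h
  exact Nat.pow_right_injective le_rfl (h.symm.trans (by norm_num))

theorem orth_golay : ∀ v ∈ golayCode, ∀ w ∈ golayCode, ∑ i, v i * w i = 0 := fun v hv w hw => by
  rw [dot_eq_card_inter]; exact dotp_cw (support₂_mem_cw_iff.mpr hv) (support₂_mem_cw_iff.mpr hw)

theorem min_golay : ∀ w ∈ golayCode, w ≠ 0 → 8 ≤ hammingNorm w := fun w hw h => by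
  have := card_cw (support₂_mem_cw_iff.mpr hw)
  have h1 := hammingNorm_eq_zero.not.mpr h
  rw [hammingNorm_eq_card] at *
  omega

theorem exists_leader_cw (w : Finset GolayPt) : ∃ u : Finset GolayPt, u.card ≤ 4 ∧ u ∆ w ∈ cw :=
  exists_leader card_golayPt finrank_golay min_golay w

/-- uniqueness of the Golay code. -/
theorem code_unique {α : Type*} [Fintype α] [DecidableEq α] {C : Submodule (ZMod 2) (α → ZMod 2)}
    (hα : Fintype.card α = 24) (hdim : Module.finrank (ZMod 2) C = 12)
    (horth : ∀ v ∈ C, ∀ w ∈ C, ∑ i, v i * w i = 0) (hmin : ∀ w ∈ C, w ≠ 0 → 8 ≤ hammingNorm w) :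
    ∃ e : α ≃ GolayPt, ∀ s : Finset α,
      s ∈ supports (C : Set (α → ZMod 2)) ↔ s.map e.toEmbedding ∈ cw := by
  obtain ⟨f, h⟩ := model24 hα (steiner_of_code hα hdim horth hmin)
  let e := Equiv.ofBijective f ⟨f.injective, fun p => (h.range p).mp (by simp)⟩
  have h1 : ∀ o ∈ octads, o.map e.symm.toEmbedding ∈ supports (C : Set (α → ZMod 2)) := fun o ho => by
    refine ((h.iff _).mpr ?_).1
    rw [octs_empty, Finset.union_empty, show f = e.toEmbedding from rfl, Finset.map_map]
    simpa using ho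
  refine ⟨e, fun s => ⟨fun hs => dual1 _ fun o ho => ?_, fun hs => ?_⟩⟩
  · rw [← dotp_supports horth hs (h1 o ho.1), dotp, dotp, ← Finset.card_map e.symm.toEmbedding,
      Finset.map_inter, Finset.map_map]
    simp
  · have := cw_induction (P := fun o => o.map e.symm.toEmbedding ∈ supports (C : Set (α → ZMod 2))) h1
      (fun s t hs ht => by
        simp only [Finset.map_eq_image] at *
        rw [Finset.image_symmDiff _ _ e.symm.toEmbedding.injective]
        exact symmDiff_mem_supports hs ht) hs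
    rw [Finset.map_map] at this
    simpa using this

/-! ### Invariant subspaces -/

theorem support₂_perm {α : Type*} [Fintype α] [DecidableEq α] (σ : Equiv.Perm α) (w : α → ZMod 2) :
    support₂ (fun p => w (σ.symm p)) = σ • support₂ w := by
  ext p; rw [← Finset.inv_smul_mem_iff, mem_support₂, mem_support₂]; rfl

theorem smul_mem_supports {W : Submodule (ZMod 2) (GolayPt → ZMod 2)}
    (hW : ∀ σ ∈ M24, ∀ w ∈ W, (fun p => w (σ.symm p)) ∈ W) {σ : Equiv.Perm GolayPt} (hσ : σ ∈ M24)
    {s : Finset GolayPt} (hs : s ∈ supports (W : Set (GolayPt → ZMod 2))) :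
    σ • s ∈ supports (W : Set (GolayPt → ZMod 2)) := by
  obtain ⟨w, hw, rfl⟩ := hs
  exact ⟨_, hW σ hσ w hw, support₂_perm σ w⟩

theorem golay_le_of_inv {W : Submodule (ZMod 2) (GolayPt → ZMod 2)}
    (hW : ∀ σ ∈ M24, ∀ w ∈ W, (fun p => w (σ.symm p)) ∈ W) {s : Finset GolayPt}
    (hs : s ∈ supports (W : Set (GolayPt → ZMod 2))) (hc : s ∈ cw) (h0 : s ≠ ∅) (h1 : s ≠ Finset.univ) :
    golayCode ≤ W := by
  have h8 : ∀ o ∈ octads, o ∈ supports (W : Set (GolayPt → ZMod 2)) → golayCode ≤ W :=
    fun o ho h w hw => support₂_mem_supports_iff.mp (cw_induction (P := (· ∈ supports _)) (fun o' ho' => by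
      obtain ⟨σ, hσ, rfl⟩ := exists_M24_octad ho ho'; exact smul_mem_supports hW hσ h)
      (fun _ _ => symmDiff_mem_supports) (support₂_mem_cw_iff.mpr hw))
  rcases card_cw hc with h | h | h | h | h
  · exact absurd (Finset.card_eq_zero.mp h) h0
  · exact h8 s ⟨hc, h⟩ hs
  · have : ∀ m, isDod m = true → om m ∈ supports (W : Set (GolayPt → ZMod 2)) := fun m hm => by
      obtain ⟨σ, hσ, e⟩ := exists_M24_dodecad ⟨hc, h⟩ (om_mem_dodecads hm)
      exact e ▸ smul_mem_supports hW hσ hs
    refine h8 _ (om_mem_octads (m := 0xaf101f ^^^ 0x5335f) (by decide +kernel)) ?_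
    rw [om_xor]; exact symmDiff_mem_supports (this _ (by decide +kernel)) (this _ (by decide +kernel))
  · have : ∀ m, isOct m = true → (om m)ᶜ ∈ supports (W : Set (GolayPt → ZMod 2)) := fun m hm => by
      obtain ⟨σ, hσ, e⟩ := exists_M24_octad ⟨compl_mem_cw hc, by
        rw [Finset.card_compl, h, card_golayPt]⟩ (om_mem_octads hm)
      rw [← e, smul_compl, compl_compl]; exact smul_mem_supports hW hσ hs
    refine h8 _ (om_mem_octads (m := 0xc75001 ^^^ 0x82402f) (by decide +kernel)) ?_
    rw [om_xor, ← compl_symmDiff_compl]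
    exact symmDiff_mem_supports (this _ (by decide +kernel)) (this _ (by decide +kernel))
  · exact absurd (Finset.eq_univ_of_card _ (h.trans card_golayPt.symm)) h1

theorem le_span_one_or {W : Submodule (ZMod 2) (GolayPt → ZMod 2)}
    (hW : ∀ σ ∈ M24, ∀ w ∈ W, (fun p => w (σ.symm p)) ∈ W) (hle : W ≤ golayCode) :
    (∀ w ∈ W, w = 0 ∨ w = fun _ => 1) ∨ W = golayCode := by
  refine or_iff_not_imp_left.mpr fun h => le_antisymm hle ?_
  push Not at h
  obtain ⟨w, hw, h0, h1⟩ := h
  exact golay_le_of_inv hW (support₂_mem_supports_iff.mpr hw) (support₂_mem_cw_iff.mpr (hle hw))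
    (fun e => h0 (by rw [← ind_support₂ w, e, ind_empty])) fun e => h1 (by rw [← ind_support₂ w, e, ind_univ]; rfl)

end Cfsg.Lib.Golay
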