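import Cfsg.Agent.Lib.Fus3.PermCert

/-! Simplicity of the `2`-fusion system of a group from a permutation subgroup of odd index. -/

set_option autoImplicit false
set_option maxRecDepth 100000
set_option maxHeartbeats 400000
set_option linter.unusedSectionVars false

namespace Cfsg.Lib.Golay

open Cfsg Subgroup Cfsg.Lib.Fus Spor

section abstract
variable {P G Γ : Type*} [Group P] [Group G] [Group Γ]

open Classical in
/-- an invariant of an element under automorphisms. -/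
noncomputable def cinv (x : P) : ℕ := {y | x * y = y * x}.ncard + if x ^ 4 = 1 then 1000 else 0

theorem cinv_aut (σ : MulAut P) (x : P) : cinv (σ x) = cinv x := by
  rw [cinv, cinv, ← map_pow, map_eq_one_iff σ σ.injective]
  congr 1
  symm
  exact Set.ncard_congr (fun y _ => σ y) (fun y hy => by
      rw [Set.mem_setOf_eq, ← map_mul, ← map_mul, hy])
    (fun _ _ _ _ e => σ.injective e) fun y hy => ⟨σ.symm y, σ.injective (by
      rw [map_mul, map_mul, MulEquiv.apply_symm_apply]; exact hy), σ.apply_symm_apply y⟩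

/-- the subgroup generated by the squares. -/
def sqs (P : Type*) [Group P] : Subgroup P := closure {y | ∃ x, x * x = y}

theorem aut_mem_sqs (σ : MulAut P) {x : P} (hx : x ∈ sqs P) : σ x ∈ sqs P := by
  refine (closure_le (K := (sqs P).comap σ.toMonoidHom)).mpr ?_ hx
  rintro _ ⟨x, rfl⟩
  exact subset_closure ⟨σ x, (map_mul σ x x).symm⟩

theorem aut_sq_sqs {A : Set P} (hA : closure A = ⊤)
    (h : ∀ s ∈ A, ∃ s', ∀ x, cinv x = cinv s → s⁻¹ * x ∈ sqs P ∨ s'⁻¹ * x ∈ sqs P) (σ : MulAut P) (x : P) :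
    x⁻¹ * σ (σ x) ∈ sqs P := by
  have hn : ∀ g x, x ∈ sqs P → g * x * g⁻¹ ∈ sqs P := fun g x hx => aut_mem_sqs (MulAut.conj g) hx
  have hx : x ∈ closure A := hA ▸ mem_top x
  induction hx using closure_induction with
  | mem s hs =>
    obtain ⟨s', h⟩ := h s hs
    have key : s⁻¹ * σ s ∈ sqs P → s⁻¹ * σ (σ s) ∈ sqs P := fun e => by
      convert mul_mem e (aut_mem_sqs σ e) using 1
      rw [map_mul, map_inv]; group
    rcases h _ (cinv_aut σ s) with e | e
    · exact key e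
    rcases h _ ((cinv_aut σ _).trans (cinv_aut σ s)) with e' | e'
    · exact e'
    · refine key ?_
      have := aut_mem_sqs σ⁻¹ (mul_mem (inv_mem e) e')
      rwa [show (s'⁻¹ * σ s)⁻¹ * (s'⁻¹ * σ (σ s)) = σ (s⁻¹ * σ s) by rw [map_mul, map_inv]; group,
        MulAut.inv_apply_self] at this
  | one => simp
  | mul x y _ _ ihx ihy =>
    convert mul_mem (hn y⁻¹ _ ihx) ihy using 1
    rw [map_mul, map_mul]; group
  | inv x _ ihx =>
    convert inv_mem (hn x _ ihx) using 1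
    rw [map_inv, map_inv]; group

theorem simple_of_sub [Finite G] {H S₀ : Subgroup Γ} (hS : S₀ ≤ H) (f : H →* G) (hf : Function.Injective f)
    (S : Sylow 2 G) {k m : ℕ} (h1 : Nat.card S₀ = 2 ^ (k + 1)) (h2 : Nat.card G = 2 ^ (k + 1) * m)
    (hm : ¬ 2 ∣ m) (ha : ∀ T, SCl H S₀ T → ∀ z ∈ T, z ≠ 1 → (∀ s ∈ S₀, s * z = z * s) → S₀ ≤ T)
    (hb : ∀ (σ : MulAut S₀) x, x⁻¹ * σ (σ x) ∈ sqs S₀) :
    (groupFusionSystem (S : Subgroup G)).IsSimple 2 := by
  let φ : S₀ →* G := f.comp (inclusion hS)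
  have hφ : Function.Injective φ := hf.comp (inclusion_injective hS)
  let e : S₀ ≃* φ.range := MonoidHom.ofInjective hφ
  have h3 : Nat.card φ.range = 2 ^ (k + 1) := (Nat.card_congr e.toEquiv).symm.trans h1
  let Q : Sylow 2 G := Sylow.ofCard φ.range (by
    rw [h3, h2, Nat.factorization_mul (by positivity) (by rintro rfl; simp at hm),
      Nat.Prime.factorization_pow Nat.prime_two]
    simp [Nat.factorization_eq_zero_of_not_dvd hm])
  obtain ⟨g, hg⟩ := MulAction.exists_smul_eq G S Q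
  refine simple_of_emb S (MulAut.conj g).toMonoidHom (MulAut.conj g).injective (H := ⊤) (S₀ := φ.range)
    (MonoidHom.range_eq_top.mpr (MulAut.conj g).surjective) (congrArg Sylow.toSubgroup hg)
    (ne_bot_of_card h3 (by have := Nat.one_le_two_pow (n := k); omega)) ?_ fun g _ hg => ⟨1, ?_⟩
  · intro T hT z hz hz1 hc
    obtain ⟨z, rfl⟩ := hT.1 hz
    have := ha ((T.comap f).map H.subtype) ⟨?_, ?_⟩ z ⟨inclusion hS z, hz, rfl⟩
      (fun e => hz1 (by rw [show z = 1 from Subtype.ext e, map_one]))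
      fun s hs => congrArg Subtype.val (hφ (a₁ := ⟨s, hs⟩ * z) (a₂ := z * ⟨s, hs⟩) (by
        rw [map_mul, map_mul]; exact hc _ ⟨_, rfl⟩))
    · rintro _ ⟨s, rfl⟩
      obtain ⟨t, ht, e⟩ := this s.2
      rwa [show φ s = f t from congrArg f (Subtype.ext e.symm)]
    · rintro _ ⟨t, ht, rfl⟩
      obtain ⟨s, e⟩ := hT.1 ht
      rw [← hf e]; exact s.2
    · rintro _ ⟨t, ht, rfl⟩ g hg h
      refine ⟨⟨g, hg⟩ * t * ⟨g, hg⟩⁻¹, ?_, rfl⟩
      show f _ ∈ T
      rw [map_mul, map_mul, map_inv]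
      refine hT.2 _ ht _ trivial ⟨⟨_, h⟩, ?_⟩
      rw [← map_inv, ← map_mul, ← map_mul]; rfl
  · rintro _ ⟨x, rfl⟩
    let τ : MulAut φ.range := φ.range.normalizerMonoidHom ⟨g, hg⟩
    have h4 := hb (e.trans (τ.trans e.symm)) x
    have : Finite S₀ := Nat.finite_of_card_ne_zero (by rw [h1]; positivity)
    have h5 : sqs S₀ ≤ frattini S₀ := (closure_le _).mpr (by
      rintro _ ⟨x, rfl⟩
      exact pow_two x ▸ PGrp.pow_mem_frattini (IsPGroup.of_card h1) x)
    refine ⟨_, frattini_le_comap_frattini_of_surjective (φ := e.toMonoidHom) e.surjective (h5 h4), ?_⟩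
    simp only [MulEquiv.toMonoidHom_eq_coe, MonoidHom.coe_coe, map_mul, map_inv, MulEquiv.trans_apply,
      MulEquiv.apply_symm_apply, coe_subtype, pow_one]
    show (φ x)⁻¹ * (g * (g * φ x * g⁻¹) * g⁻¹) = _
    rw [pow_two]; group

end abstract

variable {α : Type*} [Finite α] {c : Coding α}

/-- coded form of `cinv`. -/
noncomputable def cinvN (n : ℕ) (L : List ℕ) (y : ℕ) : ℕ :=
  Nat.add (countL L fun w => Nat.beq (mulN n y w) (mulN n w y)) (bif' (Nat.beq (powN n y 4) (idN n)) 1000 0)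

/-- The certificate: `T` lists the generators with a partner and a type, `fs` generates the group of squares,
`z` generates the centre. -/
noncomputable def autCert (n : ℕ) (T : List (ℕ × ℕ × ℕ)) (fs : List ℕ) (z : ℕ) : Bool :=
  bfsH 251 8 (mapL (mulN n) fs) 4 (idN n) fun mem _ =>
    bfsH 1021 10 (mapL (mulN n) (mapL Prod.fst T)) 16 (idN n) fun mem' L =>
      band (allL T fun s => band (band (isPerm n s.2.1) (mem' s.2.1)) (Nat.beq (cinvN n L s.1) s.2.2))
        (allL L fun y => band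
          (bor (bor (Nat.beq y (idN n)) (Nat.beq y z))
            (anyL T fun s => bnot (Nat.beq (mulN n s.1 y) (mulN n y s.1))))
          (forceN (cinvN n L y) fun k => allL T fun s => bimp (Nat.beq k s.2.2)
            (bor (mem (mulN n (invN n s.1) y)) (mem (mulN n (invN n s.2.1) y)))))

theorem autCert_spec {T : List (ℕ × ℕ × ℕ)} {us : List ℕ} {z : ℕ} (hT : ∀ s ∈ mapL Prod.fst T, c.Valid s)
    (hus : ∀ u ∈ us, c.InH (c.gen (mapL Prod.fst T)) u)
    (h : autCert c.n T (mapL (fun u => mulN c.n u u) us) z = true) :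
    (∀ x ∈ c.gen (mapL Prod.fst T), (∀ s ∈ c.gen (mapL Prod.fst T), s * x = x * s) → x = 1 ∨ x = c.dec z) ∧
      ∀ (σ : MulAut (c.gen (mapL Prod.fst T))) x, x⁻¹ * σ (σ x) ∈ sqs (c.gen (mapL Prod.fst T)) := by
  set S := c.gen (mapL Prod.fst T) with hS
  set fs := mapL (fun u => mulN c.n u u) us with hfs
  have hfs' : ∀ f ∈ fs, ∃ u ∈ us, f = mulN c.n u u := by
    rw [hfs, mapL_eq]; intro f hf
    obtain ⟨u, hu, e⟩ := List.mem_map.mp hf
    exact ⟨u, hu, e.symm⟩
  have vf : ∀ f ∈ fs, c.Valid f := fun f hf => by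
    obtain ⟨u, hu, rfl⟩ := hfs' f hf
    exact (hus u hu).1.mul (hus u hu).1
  have mT : ∀ s ∈ T, s.1 ∈ mapL Prod.fst T := fun s hs => by rw [mapL_eq]; exact List.mem_map_of_mem hs
  have vT : ∀ s ∈ T, c.InH S s.1 := fun s hs => Coding.inH_gen hT _ (mT s hs)
  obtain ⟨mem, -, -, h0, -, hm⟩ := Coding.enum_gen vf h
  obtain ⟨mem', t, L, h1, hE, hm'⟩ := Coding.enum_gen hT h0
  simp only [band_iff, allL_iff, anyL_iff, bor_iff, bnot_iff, beq_iff, forceN_eq, bimp_iff] at h1
  obtain ⟨a1, a2⟩ := h1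
  have hΦ : c.gen fs ≤ (sqs S).map S.subtype := Coding.gen_le fun f hf => ⟨vf f hf, by
    obtain ⟨u, hu, rfl⟩ := hfs' f hf
    exact ⟨_, subset_closure ⟨⟨_, (hus u hu).2⟩, rfl⟩, ((hus u hu).1.dec_mul (hus u hu).1).symm⟩⟩
  have hmul : ∀ {a b : ℕ} (ha : c.InH S a) (hb : c.InH S b), mem (mulN c.n (invN c.n a) b) = true →
      (⟨_, ha.2⟩ : S)⁻¹ * ⟨_, hb.2⟩ ∈ sqs S := fun ha hb e => by
    obtain ⟨x, hx, e'⟩ := hΦ ((hm _ (ha.1.inv.1.mul hb.1)).mp e)
    rw [ha.1.inv.1.dec_mul hb.1, ha.1.inv.2] at e'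
    rwa [show x = (⟨_, ha.2⟩ : S)⁻¹ * ⟨_, hb.2⟩ from Subtype.ext e'] at hx
  have hc : ∀ {a : ℕ} (ha : c.InH S a), cinv (⟨_, ha.2⟩ : S) = cinvN c.n L a := fun {a} ha => by
    rw [cinv, cinvN, ← hE.ncard_filter (fun w => c.dec a * w = w * c.dec a) _ fun y hy => by
      rw [beq_iff, ← (ha.1.mul hy).dec_inj (Coding.Valid.mul hy ha.1), ha.1.dec_mul hy,
        Coding.Valid.dec_mul hy ha.1]; rfl, bif'_eq, Nat.add_eq]
    congr 1
    · exact Set.ncard_congr (fun y _ => y.1) (fun y hy => ⟨y.2, congrArg Subtype.val hy⟩)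
        (fun _ _ _ _ e => Subtype.ext e) fun y hy => ⟨⟨y, hy.1⟩, Subtype.ext hy.2, rfl⟩
    · have : (⟨_, ha.2⟩ : S) ^ 4 = 1 ↔ Nat.beq (powN c.n a 4) (idN c.n) = true := by
        rw [beq_iff, ← ha.1.pow_eq_one_iff, Subtype.ext_iff]; rfl
      by_cases h4 : (⟨_, ha.2⟩ : S) ^ 4 = 1
      · rw [if_pos h4, if_pos (this.mp h4)]
      · rw [if_neg h4, if_neg (this.not.mp h4)]
  refine ⟨fun x hx hc => ?_, aut_sq_sqs (A := S.subtype ⁻¹' {σ | ∃ g ∈ mapL Prod.fst T, c.dec g = σ})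
    (closure_preimage_eq_top _) ?_⟩
  · obtain ⟨y, hy, rfl⟩ := hE.surj x hx
    have vy : c.Valid y := hE.valid y hy
    rcases (a2 y hy).1 with (e | e) | ⟨s, hs, e⟩
    · exact Or.inl (by rw [e]; exact Coding.dec_one)
    · exact Or.inr (by rw [e]; rfl)
    · refine absurd ?_ e
      rw [← ((vT s hs).1.mul vy).dec_inj (vy.mul (vT s hs).1), (vT s hs).1.dec_mul vy, vy.dec_mul (vT s hs).1]
      exact hc _ (vT s hs).2
  · rintro ⟨_, hs'⟩ ⟨g, hg, rfl⟩
    rw [mapL_eq] at hg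
    obtain ⟨s, hs, rfl⟩ := List.mem_map.mp hg
    have v1 := Coding.valid_of_isPerm (a1 s hs).1.1
    have v2 : c.InH S s.2.1 := ⟨v1, (hm' _ v1).mp (a1 s hs).1.2⟩
    refine ⟨⟨_, v2.2⟩, fun ⟨x, hx⟩ e => ?_⟩
    obtain ⟨y, hy, rfl⟩ := hE.surj x hx
    have vy : c.InH S y := ⟨hE.valid y hy, hx⟩
    exact ((a2 y hy).2 s hs ((hc vy).symm.trans (e.trans ((hc (vT s hs)).trans (a1 s hs).2)))).imp
      (hmul (vT s hs) vy) (hmul v2 vy)

theorem simple_of_cert_sub {H : Subgroup (Equiv.Perm α)} {G : Type*} [Group G] [Finite G] (f : H →* G)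
    (hf : Function.Injective f) (S : Sylow 2 G) {T : List (ℕ × ℕ × ℕ)}
    (hT : ∀ s ∈ mapL Prod.fst T, c.InH H s) {k m : ℕ} (h1 : Nat.card (c.gen (mapL Prod.fst T)) = 2 ^ (k + 1))
    (h2 : Nat.card G = 2 ^ (k + 1) * m) (hm : ¬ 2 ∣ m) (uw : List (List ℕ)) {us : List ℕ}
    (hus : mapL (wordN c.n (mapL Prod.fst T)) uw = us) {z : ℕ}
    (hz : c.Valid z) (h : autCert c.n T (mapL (fun u => mulN c.n u u) us) z = true) {fin : List (List ℕ)}
    {steps : List (ℕ × List ℕ × List ℕ)} (hH : ∀ g ∈ mapL Prod.fst steps, c.InH H g)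
    (h' : genCert c.n (mapL Prod.fst T) fin steps [z] = true) :
    (groupFusionSystem (S : Subgroup G)).IsSimple 2 := by
  have hv : ∀ s ∈ mapL Prod.fst T, c.Valid s := fun s hs => (hT s hs).1
  obtain ⟨a1, a2⟩ := autCert_spec hv (hus ▸ Coding.inH_words (Coding.inH_gen hv) uw) h
  refine simple_of_sub (Coding.gen_le hT) f hf S h1 h2 hm (fun U hU x hx hx1 hc => ?_) a2
  obtain rfl := (a1 x (hU.1 hx) hc).resolve_left hx1
  exact genCert_spec hv hU hH (fun y hy => by rw [List.mem_singleton.mp hy]; exact ⟨hz, hx⟩) h'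

/-- a group containing `M22` with odd index has a simple `2`-fusion system. -/
theorem simple_of_M22 {G : Type*} [Group G] [Finite G] (f : M22 →* G) (hf : Function.Injective f)
    (S : Sylow 2 G) {m : ℕ} (h2 : Nat.card G = 2 ^ 7 * m) (hm : ¬ 2 ∣ m) :
    (groupFusionSystem (S : Subgroup G)).IsSimple 2 :=
  simple_of_cert_sub (c := gc) f hf S
    (T := [(0x171408151216030913110a0d100607040c0b0e0f05010200, 0x171408151216030913110a0d100607040c0b0e0f05010200, 8),
      (0x1716070b0614030d0c1110090a12080f13150e0405010200, 0x171209100a15110b0d030c0607041613140f05080e010200, 1008),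
      (0x171209100a15110b0d030c0607041613140f05080e010200, 0x1716070b0614030d0c1110090a12080f13150e0405010200, 1008)])
    (inH_inf_pt (inH_inf_pt (inH_of_allL (by decide +kernel)) 23 (by decide) (by decide +kernel)) 0 (by decide)
      (by decide +kernel))
    (k := 6) (Coding.card_gen (valid_of_allL (by decide +kernel)) (M := 127) (d := 7) (a := 3) (by decide +kernel))
    h2 hm [[1], [2, 1], [0]] rfl (z := 0x1704130f1508110d140e100b0c090a120607051603020100)
    (Coding.valid_of_isPerm (by decide +kernel)) (by decide +kernel)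
    (fin := [[1, 0, 3, 1, 2], [3, 0, 1, 3], [3, 2, 4]])
    (steps := [(0x170a0b090708010d04030f060c10141513121116020e0500, [0], [1, 1, 0, 1]),
      (0x170c07160f14121503090e13020b100d01040a0611050800, [0], [0, 0, 1, 0, 2]),
      (0x1711160d0c0b121502030106090513070a040e100f140800, [1], [2, 1, 0]),
      (0x1712110f0e151608140d0b07130a09060305100c04010200, [3], [0, 2, 1, 1])])
    (inH_inf_pt (inH_inf_pt (inH_of_allL (by decide +kernel)) 23 (by decide) (by decide +kernel)) 0 (by decide)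
      (by decide +kernel))
    (by decide +kernel)

end Cfsg.Lib.Golay
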