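import Cfsg.Agent.Lib.Golay.Model

/-! Monomial automorphisms, the ternary Golay code and the hexacode. -/

set_option autoImplicit false
set_option maxRecDepth 100000
set_option maxHeartbeats 400000
set_option synthInstance.maxSize 4096
set_option synthInstance.maxHeartbeats 200000

namespace Cfsg.Lib.Golay

open MulAction
open scoped Pointwise

theorem Coding.steiner_of_list {α : Type*} [Fintype α] [DecidableEq α] (c : Coding α) {L : List ℕ}
    {t k : ℕ} (hnd : L.Nodup) (h : allL L (fun m => band (Nat.ble (Nat.succ m) (Nat.shiftLeft 1 c.n))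
      (band (Nat.beq (popN c.n m) k) (allL L fun m' => bor (Nat.beq m m')
        (Nat.ble (Nat.succ (popN c.n (Nat.land m m'))) t)))) = true)
    (hn : lenL L * Nat.choose k t = Nat.choose c.n t) :
    IsSteinerSystem t k {b | ∃ m ∈ L, c.ofMask m = b} ∧ {b | ∃ m ∈ L, c.ofMask m = b}.ncard = lenL L := by
  simp only [allL_iff, band_iff, bor_iff, beq_iff, ble_iff, shl_eq', Nat.one_shiftLeft] at h
  have h1 : {b | ∃ m ∈ L, c.ofMask m = b}.ncard = lenL L := by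
    rw [lenL_eq, ← List.toFinset_card_of_nodup hnd, ← Set.ncard_coe_finset, ← Set.InjOn.ncard_image
      (f := c.ofMask) fun a ha b hb => (c.ofMask_inj (h a (by simpa using ha)).1 (h b (by simpa using hb)).1).mp]
    congr 1; ext; simp
  refine ⟨steiner_of_packing ?_ ?_ (by rw [h1, hn, c.card_eq]), h1⟩
  · rintro _ ⟨m, hm, rfl⟩; rw [c.card_ofMask, (h m hm).2.1]
  · rintro _ ⟨m, hm, rfl⟩ _ ⟨m', hm', rfl⟩ h2
    rw [c.card_inter_ofMask] at h2
    rw [((h m hm).2.2 m' hm').resolve_right fun h3 => absurd (h3.trans h2) (Nat.not_succ_le_self _)]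

/-! ### Monomial automorphisms -/

section mono
variable {α F : Type*} [Field F] {C : Submodule F (α → F)}

theorem monomialMap_comp (σ τ : Equiv.Perm α) (c d : α → Fˣ) (x : α → F) :
    monomialMap σ c (monomialMap τ d x) = monomialMap (σ * τ) (c * fun i => d (σ.symm i)) x := by
  funext i; simp [monomialMap, mul_assoc, Equiv.Perm.mul_def]

theorem monomialMap_surj [Finite α] [Finite F] {σ : Equiv.Perm α} {c : α → Fˣ}
    (h : ∀ x ∈ C, monomialMap σ c x ∈ C) : ∀ x ∈ C, ∃ y ∈ C, monomialMap σ c y = x :=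
  ((Set.toFinite (C : Set (α → F))).injOn_iff_bijOn_of_mapsTo h).mp (fun x _ y _ e => funext fun i => by
    simpa [monomialMap] using congrFun e (σ i)) |>.surjOn

/-- the permutation parts of the monomial automorphisms of a code. -/
def monoAut [Finite α] [Finite F] (C : Submodule F (α → F)) : Subgroup (Equiv.Perm α) where
  carrier := {σ | ∃ c : α → Fˣ, ∀ x ∈ C, monomialMap σ c x ∈ C}
  one_mem' := ⟨1, fun x hx => by convert hx; funext i; simp [monomialMap, Equiv.Perm.one_def]⟩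
  mul_mem' := by
    rintro σ τ ⟨c, hc⟩ ⟨d, hd⟩
    exact ⟨_, fun x hx => monomialMap_comp σ τ c d x ▸ hc _ (hd x hx)⟩
  inv_mem' := by
    rintro σ ⟨c, hc⟩
    refine ⟨fun i => (c (σ i))⁻¹, fun x hx => ?_⟩
    obtain ⟨y, hy, rfl⟩ := monomialMap_surj hc x hx
    convert hy; funext i; simp [monomialMap, Equiv.Perm.inv_def]

theorem card_monomial [Finite α] [Finite F] :
    Nat.card {f : Equiv.Perm α × (α → Fˣ) // ∀ x ∈ C, monomialMap f.1 f.2 x ∈ C} =
      Nat.card (monoAut C) * Nat.card {c : α → Fˣ // ∀ x ∈ C, monomialMap 1 c x ∈ C} := by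
  rw [← Nat.card_prod]
  refine (Nat.card_congr (Equiv.ofBijective (fun p => ⟨(p.1, p.2 * p.1.2.choose), fun x hx => by
    have := p.2.2 _ (p.1.2.choose_spec x hx)
    rwa [monomialMap_comp, one_mul] at this⟩) ⟨?_, ?_⟩)).symm
  · rintro ⟨σ, c⟩ ⟨τ, d⟩ e
    obtain ⟨e1, e2⟩ := Prod.mk.inj (congrArg Subtype.val e)
    obtain rfl : σ = τ := Subtype.ext e1
    rw [Subtype.ext (mul_right_cancel e2 : c.1 = d.1)]
  · rintro ⟨⟨σ, c⟩, h⟩
    have hσ : σ ∈ monoAut C := ⟨c, h⟩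
    refine ⟨(⟨σ, hσ⟩, ⟨c * hσ.choose⁻¹, fun x hx => ?_⟩), Subtype.ext (Prod.ext rfl (by simp))⟩
    obtain ⟨y, hy, rfl⟩ := monomialMap_surj hσ.choose_spec x hx
    rw [monomialMap_comp, one_mul]
    exact (inv_mul_cancel_right c hσ.choose).symm ▸ h y hy

theorem filter_monomialMap [Fintype α] [DecidableEq α] [DecidableEq F] (σ : Equiv.Perm α) (c : α → Fˣ)
    (x : α → F) : (Finset.univ.filter fun i => monomialMap σ c x i ≠ 0) =
      σ • Finset.univ.filter fun i => x i ≠ 0 := by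
  ext i; rw [← Finset.inv_smul_mem_iff]; simp [monomialMap, Equiv.Perm.inv_def]

end mono

/-! ### The ternary Golay code -/

/-- six ternary parameters. -/
abbrev P6 : Type := ZMod 3 × ZMod 3 × ZMod 3 × ZMod 3 × ZMod 3 × ZMod 3

/-- the systematic encoder of the ternary Golay code. -/
def tw (v : P6) (p : ArrayPt) : ZMod 3 :=
  match v with
  | (a, b, c, d, e, f) => ![![a, b, c], ![d, e, a + b + c - d - e],
      ![f, -b + c - d + e + f, a - b + d - e + f],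
      ![a - b - c - d - f, a + c + d + e - f, -a - b + c - e - f]] p.1 p.2

/-- the information symbols. -/
def tinfo (x : ArrayPt → ZMod 3) : P6 := (x (0, 0), x (0, 1), x (0, 2), x (1, 0), x (1, 1), x (2, 0))

theorem tinfo_tw (v : P6) : tinfo (tw v) = v := rfl

theorem tw_injective : Function.Injective tw := fun v w e => by rw [← tinfo_tw v, e, tinfo_tw]

theorem mem_tetracode {t : Fin 4 → ZMod 3} :
    t ∈ tetracode ↔ ∃ a b : ZMod 3, ![b, a, a + b, a + 2 * b] = t := by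
  rw [tetracode, Submodule.mem_span_pair]
  refine exists₂_congr fun a b => Eq.congr_left ?_
  revert a b; decide

theorem mem_ternary {x : ArrayPt → ZMod 3} : x ∈ ternaryGolayCode ↔ tw (tinfo x) = x := by
  constructor
  · rintro ⟨s, h1, h2⟩
    have h3 := fun a b => h2 _ (mem_tetracode.mpr ⟨a, b, rfl⟩)
    have h4 : ∀ f : ZMod 3 → ZMod 3, ∑ r, f r = f 0 + f 1 + f 2 := fun f => Fin.sum_univ_three f
    simp only [h4] at h1
    simp only [Fin.sum_univ_four, Matrix.cons_val] at h3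
    obtain ⟨a1, a2, a3, a4, a5, a6⟩ := (by decide +kernel : ∀ a b c s : ZMod 3, a + b + c = -s →
      ∀ d e u : ZMod 3, d + e + u = -s → ∀ f g h : ZMod 3, f + g + h = -s →
      ∀ i : ZMod 3, a + d + f + i = s → b + e + h + i = s → ∀ j : ZMod 3, a + e + g + j = s →
      b + u + f + j = s → ∀ k : ZMod 3, a + u + h + k = s → a + b + c - d - e = u ∧ -b + c - d + e + f = g ∧
      a - b + d - e + f = h ∧ a - b - c - d - f = i ∧ a + c + d + e - f = j ∧ -a - b + c - e - f = k)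
      _ _ _ _ (h1 0) _ _ _ (h1 1) _ _ _ (h1 2) _ (h3 0 0) (h3 1 1) _ (h3 1 0) (h3 2 1) _ (h3 2 0)
    funext ⟨i, r⟩
    revert i r
    refine Fin.forall_fin_succ.mpr ⟨?_, Fin.forall_fin_succ.mpr ⟨?_, Fin.forall_fin_succ.mpr ⟨?_,
      Fin.forall_fin_one.mpr ?_⟩⟩⟩ <;>
    refine Fin.forall_fin_succ.mpr ⟨?_, Fin.forall_fin_succ.mpr ⟨?_, Fin.forall_fin_one.mpr ?_⟩⟩
    exacts [rfl, rfl, rfl, rfl, rfl, a1, rfl, a2, a3, a4, a5, a6]
  · intro h
    rw [← h]
    generalize tinfo x = v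
    obtain ⟨h1, h2⟩ := (by decide +kernel : ∀ v : P6, (∀ i : Fin 4, ∑ r : ZMod 3, tw v (i, r) =
      -(-(v.1 + v.2.1 + v.2.2.1))) ∧ ∀ a b : ZMod 3,
        ∑ i : Fin 4, tw v (i, ![b, a, a + b, a + 2 * b] i) = -(v.1 + v.2.1 + v.2.2.1)) v
    exact ⟨_, h1, fun t ht => by obtain ⟨a, b, rfl⟩ := mem_tetracode.mp ht; exact h2 a b⟩

theorem tw_mem (v : P6) : tw v ∈ ternaryGolayCode := mem_ternary.mpr rfl

theorem forall_ternary {P : (ArrayPt → ZMod 3) → Prop} :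
    (∀ x ∈ ternaryGolayCode, P x) ↔ ∀ v, P (tw v) :=
  ⟨fun h v => h _ (tw_mem v), fun h _ hx => mem_ternary.mp hx ▸ h _⟩

theorem ncard_ternary (P : (ArrayPt → ZMod 3) → Prop) [DecidablePred fun v => P (tw v)] :
    {x | x ∈ ternaryGolayCode ∧ P x}.ncard = (Finset.univ.filter fun v => P (tw v)).card := by
  rw [← Set.ncard_coe_finset, ← Set.ncard_image_of_injective _ tw_injective]
  congr 1; ext x
  exact ⟨fun h => ⟨tinfo x, by simpa [mem_ternary.mp h.1] using h.2, mem_ternary.mp h.1⟩, by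
    rintro ⟨v, hv, rfl⟩; exact ⟨tw_mem v, by simpa using hv⟩⟩

/-- numbering of the array positions. -/
def tc : Coding ArrayPt where
  n := 12
  idx p := 3 * p.1.val + p.2.val
  pt i := (Fin.ofNat 4 (i / 3), (i : ZMod 3))
  n_le := by norm_num
  idx_lt := by decide
  pt_idx := by decide
  idx_pt := by decide

/-- the mask of the support of a word. -/
noncomputable def tmsk (v : P6) : ℕ := packN 1 (fun i => if tw v (tc.pt i) = 0 then 0 else 1) 12

theorem ofMask_tmsk : ∀ v, tc.ofMask (tmsk v) = ternarySupport (tw v) := by decide +kernel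

/-- the masks of the ternary hexads. -/
def thex : List ℕ := [0x3f, 0xde, 0xed, 0xf3, 0x15b, 0x16e, 0x175, 0x19d, 0x1ab, 0x1b6, 0x1c7, 0x1f8, 0x24f, 0x276,
  0x279, 0x29b, 0x2a7, 0x2bc, 0x2d5, 0x2ea, 0x317, 0x32d, 0x33a, 0x35c, 0x363, 0x38e, 0x3b1,
  0x3c9, 0x3d2, 0x3e4, 0x45d, 0x467, 0x47a, 0x497, 0x4ae, 0x4b9, 0x4cb, 0x4f4, 0x50f, 0x533,
  0x53c, 0x556, 0x569, 0x59a, 0x5a5, 0x5cc, 0x5d1, 0x5e2, 0x61e, 0x62b, 0x635, 0x653, 0x66c,
  0x68d, 0x6b2, 0x6c6, 0x6d8, 0x6e1, 0x719, 0x726, 0x745, 0x74a, 0x770, 0x783, 0x794, 0x7a8,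
  0x857, 0x86b, 0x87c, 0x88f, 0x8b5, 0x8ba, 0x8d9, 0x8e6, 0x91e, 0x927, 0x939, 0x94d, 0x972,
  0x993, 0x9ac, 0x9ca, 0x9d4, 0x9e1, 0xa1d, 0xa2e, 0xa33, 0xa5a, 0xa65, 0xa96, 0xaa9, 0xac3,
  0xacc, 0xaf0, 0xb0b, 0xb34, 0xb46, 0xb51, 0xb68, 0xb85, 0xb98, 0xba2, 0xc1b, 0xc2d, 0xc36,
  0xc4e, 0xc71, 0xc9c, 0xca3, 0xcc5, 0xcd2, 0xce8, 0xd15, 0xd2a, 0xd43, 0xd58, 0xd64, 0xd86,
  0xd89, 0xdb0, 0xe07, 0xe38, 0xe49, 0xe54, 0xe62, 0xe8a, 0xe91, 0xea4, 0xf0c, 0xf12, 0xf21,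
  0xfc0]

theorem ternary_hexads : {h : Finset ArrayPt | ∃ x ∈ ternaryGolayCode, ternarySupport x = h ∧ h.card = 6} =
    {b | ∃ m ∈ thex, tc.ofMask m = b} := by
  ext h
  constructor
  · rintro ⟨x, hx, rfl, h6⟩
    rw [← mem_ternary.mp hx, ← ofMask_tmsk] at h6 ⊢
    rw [tc.card_ofMask] at h6
    exact ⟨_, (by decide +kernel : ∀ v, popN 12 (tmsk v) = 6 → tmsk v ∈ thex) _ h6, rfl⟩
  · rintro ⟨m, hm, rfl⟩
    have h6 : (tc.ofMask m).card = 6 := by rw [tc.card_ofMask]; revert m; decide +kernel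
    rw [show thex = List.map (fun i : ℕ => tmsk (i, (i / 3 : ℕ), (i / 9 : ℕ), (i / 27 : ℕ), (i / 81 : ℕ),
      (i / 243 : ℕ))) [229, 696, 289, 574, 439, 318, 667, 154, 61, 102, 499, 594, 565, 579, 379, 112, 22, 117,
      415, 543, 97, 37, 192, 711, 247, 66, 163, 514, 327, 252, 604, 259, 354, 187, 39, 190, 301,
      657, 49, 85, 144, 417, 541, 219, 10, 279, 325, 489, 156, 34, 100, 652, 306, 64, 165, 264,
      432, 487, 217, 12, 262, 516, 567, 7, 90, 27, 346, 517, 441, 43, 91, 138, 703, 255, 120,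
      25, 109, 307, 651, 166, 63, 273, 576, 244, 208, 48, 169, 462, 496, 174, 55, 250, 522, 324,
      58, 171, 507, 568, 270, 19, 189, 3, 142, 73, 183, 552, 406, 225, 4, 505, 570, 513, 172,
      57, 493, 675, 495, 21, 28, 81, 13, 108, 271, 333, 246, 30, 82, 9, 36, 84, 1, 243] by decide +kernel] at hm
    obtain ⟨i, -, rfl⟩ := List.mem_map.mp hm
    exact ⟨_, tw_mem _, (ofMask_tmsk _).symm, h6⟩

theorem ternary_steiner : IsSteinerSystem 5 6 {b | ∃ m ∈ thex, tc.ofMask m = b} ∧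
    {b | ∃ m ∈ thex, tc.ofMask m = b}.ncard = 132 :=
  tc.steiner_of_list (by decide +kernel) (by decide +kernel) (by decide +kernel)

theorem ternary_diag {c : ArrayPt → (ZMod 3)ˣ}
    (h : ∀ x ∈ ternaryGolayCode, monomialMap 1 c x ∈ ternaryGolayCode) :
    (∀ p, c p = 1) ∨ ∀ p, c p = -1 := by
  have h1 : ∀ v p, tw (tinfo fun p => c p * tw v p) p = c p * tw v p := fun v =>
    congrFun (mem_ternary.mp (h _ (tw_mem v)))
  have a := h1 (1, 0, 0, 0, 0, 0)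
  have h2 : ∀ p, (c p : ZMod 3) = c (0, 0) := by
    have a1 := a (1, 2)
    have a2 := a (2, 2)
    have a3 := a (3, 0)
    have a4 := a (3, 1)
    have a5 := a (3, 2)
    have b1 := h1 (0, 1, 0, 0, 0, 0) (1, 2)
    have b2 := h1 (0, 0, 1, 0, 0, 0) (1, 2)
    have b3 := h1 (0, 0, 0, 1, 0, 0) (1, 2)
    have b4 := h1 (0, 0, 0, 0, 1, 0) (1, 2)
    have b5 := h1 (0, 0, 0, 0, 0, 1) (2, 1)
    have b6 := h1 (0, 0, 0, 0, 0, 1) (2, 2)
    simp [tw, tinfo] at a1 a2 a3 a4 a5 b1 b2 b3 b4 b5 b6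
    rintro ⟨i, r⟩
    revert i r
    refine Fin.forall_fin_succ.mpr ⟨?_, Fin.forall_fin_succ.mpr ⟨?_, Fin.forall_fin_succ.mpr ⟨?_,
      Fin.forall_fin_one.mpr ?_⟩⟩⟩ <;>
    refine Fin.forall_fin_succ.mpr ⟨?_, Fin.forall_fin_succ.mpr ⟨?_, Fin.forall_fin_one.mpr ?_⟩⟩
    exacts [rfl, (b1.trans a1.symm), (b2.trans a1.symm),
      (b3.trans a1.symm), (b4.trans a1.symm), a1.symm,
      (b6.trans a2.symm), (b5.symm.trans (b6.trans a2.symm)),
      a2.symm, a3.symm, a4.symm,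
      a5.symm]
  have := (by decide : ∀ u : (ZMod 3)ˣ, u = 1 ∨ u = -1) (c (0, 0))
  exact this.imp (fun e p => (Units.ext (h2 p)).trans e) fun e p => (Units.ext (h2 p)).trans e

/-! ### The hexacode -/

theorem mem_hexacode {F : Type*} [Field F] (h2 : (2 : F) = 0) {ω : F} (hω : ω ^ 2 + ω + 1 = 0)
    {x : Fin 6 → F} : x ∈ hexacode F ω ↔ x 3 = x 0 + x 1 + x 2 ∧
      x 4 = (ω + 1) * x 0 + ω * x 1 + x 2 ∧ x 5 = ω * x 0 + (ω + 1) * x 1 + x 2 := by
  rw [hexacode, Submodule.mem_span_triple]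
  constructor
  · rintro ⟨a, b, c, rfl⟩
    simp only [Pi.add_apply, Pi.smul_apply, smul_eq_mul, Matrix.cons_val]
    refine ⟨?_, ?_, ?_⟩ <;> grind
  · rintro ⟨h3, h4, h5⟩
    refine ⟨ω * x 0 + (ω + 1) * x 1, (ω + 1) * x 0 + (ω + 1) * x 1 + x 2, x 1 + x 2, funext fun i => ?_⟩
    fin_cases i <;> simp <;> grind

end Cfsg.Lib.Golay
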