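import Cfsg.Agent.Lib.Golay.Cls

/-! The involution centralisers of `M24`. -/

set_option autoImplicit false
set_option maxRecDepth 100000

namespace Cfsg.Lib.Golay

open MulAction Spor
open scoped Pointwise

/-- the centraliser `2^{1+6}:L3(2)` of `z2A`. -/
noncomputable abbrev C2A : Subgroup (Equiv.Perm GolayPt) := M24 ⊓ Subgroup.centralizer {gc.dec z2A}
/-- the centraliser `2^6:S5` of `z2B`. -/
noncomputable abbrev C2B : Subgroup (Equiv.Perm GolayPt) := M24 ⊓ Subgroup.centralizer {gc.dec z2B}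

theorem card_C2A : Nat.card C2A = 21504 :=
  Coding.card_centralizer gen_gM24p (fun g hg => (inH_gM24p g hg).1) inH_z2A.1 (n := 11385) card_M24
    (M := 16381) (d := 14) (a := 180) (by decide +kernel)

theorem card_C2B : Nat.card C2B = 7680 :=
  Coding.card_centralizer gen_gM24p (fun g hg => (inH_gM24p g hg).1) inH_z2B.1 (n := 31878) card_M24
    (M := 32749) (d := 15) (a := 500) (by decide +kernel)

/-- generators of `C2A`. -/
def gC2A : List ℕ := [0x17140d15100403061311070812090a160b0c010f000e0205,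
  0x30a07080616020f1201140d100c0b041315170900050e11]
/-- generators of `C2B`. -/
def gC2B : List ℕ := [0x60b110a051704080916120102140f00030e0d0c10130715,
  0x402091314050b01070817030e0615110f0a0c001210160d]

theorem inH_gC2A : ∀ g ∈ gC2A, gc.InH C2A g :=
  inH_inf_cent (inH_of_allL (by decide +kernel)) inH_z2A.1 (by decide +kernel)
theorem inH_gC2B : ∀ g ∈ gC2B, gc.InH C2B g :=
  inH_inf_cent (inH_of_allL (by decide +kernel)) inH_z2B.1 (by decide +kernel)

theorem gen_gC2A : gc.gen gC2A = C2A :=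
  Coding.gen_eq_of_chain [(4, 16, [[0, 1, 0], [0, 0, 1, 1]]),
    (6, 14, [[0, 1, 1, 0, 1, 1, 1], [1, 1, 0, 1, 1, 1, 0]]),
    (8, 12, [[1, 1], [0, 0, 1, 0, 0, 1], [0, 0, 0, 1, 1, 0, 1]]), (0, 8, [])]
    inH_gC2A (by decide +kernel) (le_of_eq card_C2A)

theorem gen_gC2B : gc.gen gC2B = C2B :=
  Coding.gen_eq_of_chain [(0, 24, [[1, 0, 0, 0], [0, 1, 0, 0, 1, 1]]),
    (3, 20, [[1, 1, 1, 0], [0, 0, 1, 1, 0]]), (4, 16, [])]
    inH_gC2B (by decide +kernel) (le_of_eq card_C2B)

end Cfsg.Lib.Golay
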