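import Cfsg.Agent.Lib.Golay.BlkA
import Cfsg.Agent.Lib.Golay.C2

/-! `M22` and `M24` have only one 2-block. -/

set_option autoImplicit false
set_option maxRecDepth 100000
set_option maxHeartbeats 400000

namespace Cfsg.Lib.Golay

open MulAction Spor Cfsg.Lib.Char
open scoped Pointwise

theorem card_le_orbit_mul {α : Type*} [Finite α] {K L : Subgroup (Equiv.Perm α)} (p : α) (F : Finset α)
    (hF : ∀ g ∈ K, g p ∈ F) (hL : ∀ g ∈ K, g p = p → g ∈ L) : Nat.card K ≤ F.card * Nat.card L := by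
  rw [card_eq_orbit_mul K p, ← Set.ncard_coe_finset]
  refine Nat.mul_le_mul (Set.ncard_le_ncard fun y hy => ?_) (Subgroup.card_le_of_le fun g hg => hL g hg.1 hg.2)
  obtain ⟨g, hg, rfl⟩ := mem_orbit_subgroup.mp hy
  exact hF g hg

theorem fix_of_comm {α : Type*} {g x : Equiv.Perm α} (h : g * x = x * g) {p : α} (hp : x p = p) :
    x (g p) = g p := by rw [← Equiv.Perm.mul_apply, ← h, Equiv.Perm.mul_apply, hp]

theorem mem_O0_iff (p : GolayPt) : p ∈ om 0x82402f ↔ gc.dec z2A p = p := by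
  rw [← fix_z2A]; simp

theorem eq_one_of_fix_off {σ : Equiv.Perm GolayPt} (hσ : σ ∈ HO)
    (h : ∀ p, p ∉ om 0x82402f → σ p = p) : σ = 1 :=
  Coding.chain_base [(4, 16, [[0, 0, 1, 0], [0, 1, 1, 0]]), (6, 15, [[1, 1, 0, 1], [0, 1, 0, 1, 1]]),
    (7, 14, [[1, 1, 0, 1], [1, 0, 1, 0, 0, 0]]), (8, 12, [[0, 0], [0, 1, 1, 0, 1, 1], [0, 1, 0, 0, 1, 1, 1]]),
    (9, 8, [])] inH_gHO (by decide +kernel) (le_of_eq card_HO) hσ fun l hl => h _ (by
      have : l.1 < 24 ∧ ¬ tb 0x82402f l.1 = true := by revert l; decide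
      rw [pt_mem_om this.1]; exact this.2)

theorem mem_HO_of_comm {c : Equiv.Perm GolayPt} (hc : c ∈ M24) (h : c * gc.dec z2A = gc.dec z2A * c) :
    c ∈ HO := by
  refine ⟨hc, Finset.eq_of_subset_of_card_le (fun p hp => ?_) (Finset.card_smul_finset _ _).ge⟩
  obtain ⟨q, hq, rfl⟩ := Finset.mem_smul_finset.mp hp
  exact (mem_O0_iff _).mpr (fix_of_comm h ((mem_O0_iff _).mp hq))

theorem mem_E16 {q : Equiv.Perm GolayPt} : q ∈ E16 ↔ q ∈ M24 ∧ ∀ p ∈ om 0x82402f, q p = p := by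
  rw [Subgroup.mem_inf, mem_fixingSubgroup_iff]; rfl

theorem centCon_2A {H : Subgroup (Equiv.Perm GolayPt)} (h1 : H ≤ M24) (h2 : E16 ≤ H) :
    CentCon 2 H (gc.dec z2A) E16 where
  pg := IsPGroup.of_card (n := 4) card_E16
  norm c hc h q hq := by
    refine mem_E16.mpr ⟨mul_mem (mul_mem (h1 hc) hq.1) (inv_mem (h1 hc)), fun p hp => ?_⟩
    have := (apply_mem_iff_of_smul_eq (inv_mem (mem_HO_of_comm (h1 hc) h)).2 p).mpr hp
    rw [Equiv.Perm.mul_apply, Equiv.Perm.mul_apply, (mem_E16.mp hq).2 _ this]; simp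
  le q hq := by
    have hz : gc.dec z2A ∈ E16 := mem_E16.mpr ⟨inH_z2A.2, fun p hp => (mem_O0_iff p).mp hp⟩
    refine ⟨h2 hq, ?_⟩
    have e := E16_sq (mul_mem hq hz)
    calc q * gc.dec z2A = gc.dec z2A * (gc.dec z2A * q * gc.dec z2A) := by
          rw [← mul_assoc, ← mul_assoc, E16_sq hz, one_mul]
      _ = gc.dec z2A * (q * (q * gc.dec z2A * (q * gc.dec z2A))) := by
          rw [← mul_assoc q, ← mul_assoc q q, E16_sq hq]; group
      _ = _ := by rw [e, mul_one]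
  self c hc h hq := by
    have h3 := mem_HO_of_comm (h1 hc) h
    obtain ⟨q, hq1, e⟩ := exists_E16 pt4_not_mem ((apply_mem_iff_of_smul_eq h3.2 _).not.mpr pt4_not_mem)
    have : q⁻¹ * c = 1 := eq_one_of_fix_off (mul_mem (inv_mem (E16_le hq1)) h3) fun p hp => by
      obtain ⟨r, hr, rfl⟩ := exists_E16 pt4_not_mem hp
      have e2 : q * r = r * q := by
        have a := E16_sq (mul_mem hq1 hr)
        calc q * r = r * (r * q * r) := by rw [← mul_assoc, ← mul_assoc, E16_sq hr, one_mul]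
          _ = r * (q * (q * r * (q * r))) := by rw [← mul_assoc q, ← mul_assoc q q, E16_sq hq1]; group
          _ = _ := by rw [a, mul_one]
      rw [Equiv.Perm.mul_apply, ← Equiv.Perm.mul_apply c, hq r hr, Equiv.Perm.mul_apply, ← e,
        ← Equiv.Perm.mul_apply r, ← e2]; simp
    rw [← inv_mul_eq_one.mp this]; exact hq1

/-- the normal subgroup `2^6` of `C2B`. -/
def gQ2B : List ℕ := [0x101514130c0e160f110412080a090b0706030d05010217,
  0x1040614070c110d0f0e1012080a090b1315051603001702, 0x116131415080e100f110d0b0c0a09120607030405001702,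
  0x104150f13120e0d1411100c0b090a080706031605001702, 0x413141512050d0f03100c0b0a0908060711160e010217,
  0x17041509130c050d0a031012080f140b070611160e020100]

theorem inH_gQ2B : ∀ g ∈ gQ2B, gc.InH C2B g :=
  inH_inf_cent (inH_of_allL (by decide +kernel)) inH_z2B.1 (by decide +kernel)

theorem Q2B_aux : Nat.card (gc.gen gQ2B) = 64 ∧
    ∀ g ∈ gc.gen gC2B, ∀ x ∈ gc.gen gQ2B, g * x * g⁻¹ ∈ gc.gen gQ2B :=
  have := Coding.normal_cert (fun g hg => (inH_gC2B g hg).1) (fun g hg => (inH_gQ2B g hg).1)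
    (M := 61) (d := 6) (a := 2) (n := 64) (q := fun _ => true) (by decide +kernel)
  ⟨this.1, this.2.2⟩

theorem Q2B_self {c : Equiv.Perm GolayPt} (hc : c ∈ gc.gen gC2B) (h : ∀ q ∈ gc.gen gQ2B, c * q = q * c) :
    c ∈ gc.gen gQ2B := by
  obtain ⟨mem, -, -, h1, -, h3⟩ := Coding.enum_gen (fun g hg => (inH_gQ2B g hg).1) (M := 61) (d := 6) (a := 2)
    (k := fun mem _ => bfsH 8191 13 (mapL (mulN 24) gC2B) 121 (idN 24) fun _ L => allL L fun y =>
      bimp (allL gQ2B fun q => Nat.beq (mulN 24 y q) (mulN 24 q y)) (mem y)) (by decide +kernel)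
  obtain ⟨y, hy, rfl, h4⟩ := Coding.forall_mem_gen (fun g hg => (inH_gC2B g hg).1) h1 hc
  refine (h3 y hy).mp (bimp_iff.mp h4 (allL_iff.mpr fun q hq => beq_iff.mpr ?_))
  have hq' := (inH_gQ2B q hq).1
  refine ((hy.mul hq').dec_inj (hq'.mul hy)).mp ?_
  rw [hy.dec_mul hq', hq'.dec_mul hy]
  exact h _ (Coding.inH_gen (fun g hg => (inH_gQ2B g hg).1) q hq).2

theorem centCon_2B : CentCon 2 M24 (gc.dec z2B) (gc.gen gQ2B) where
  pg := IsPGroup.of_card (n := 6) Q2B_aux.1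
  norm c hc h := Q2B_aux.2 c (gen_gC2B ▸ ⟨hc, Subgroup.mem_centralizer_singleton_iff.mpr h⟩)
  le q hq := ⟨(Coding.gen_le inH_gQ2B hq).1,
    Subgroup.mem_centralizer_singleton_iff.mp (Coding.gen_le inH_gQ2B hq).2⟩
  self c hc h := Q2B_self (gen_gC2B ▸ ⟨hc, Subgroup.mem_centralizer_singleton_iff.mpr h⟩)

/-! ### Elements of order three -/

/-- an element of order three of `M21`. -/
def x3 : ℕ := 0x171509040f1211060d03130b0810160c140a0e0705020100
/-- a fixed point free element of order three with the cycle `(∞ 0 1)`. -/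
def y3 : ℕ := 0x713100f030c0a150416020e1408050d12090b06111701
/-- a Sylow 3-subgroup of `M21`. -/
def gS9 : List ℕ := [x3, 0x171509140311020a050c0e0d1306160f071008040b120100]

theorem inH_M22 {gs : List ℕ} (h : allL gs (fun g => band (inM24 g) (band (Nat.beq (app g 23) 23)
    (Nat.beq (app g 0) 0))) = true) : ∀ g ∈ gs, gc.InH M22 g := fun g hg => by
  have := allL_iff.mp h g hg
  rw [band_iff, band_iff, beq_iff, beq_iff] at this
  have h1 := inH_of_inM24 this.1
  exact (h1.inf (h1.1.mem_stab_pt (by decide) this.2.1)).inf (h1.1.mem_stab_pt (by decide) this.2.2)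

theorem inH_gS9 : ∀ g ∈ gS9, gc.InH M22 g := inH_M22 (by decide +kernel)
theorem inH_x3 : gc.InH M22 x3 := inH_gS9 _ List.mem_cons_self
theorem inH_y3 : gc.InH M24 y3 := inH_of_inM24 (by decide +kernel)
theorem orderOf_x3 : orderOf (gc.dec x3) = 3 := inH_x3.1.orderOf_eq (by norm_num) (by decide +kernel)
theorem orderOf_y3 : orderOf (gc.dec y3) = 3 := inH_y3.1.orderOf_eq (by norm_num) (by decide +kernel)
theorem fix_x3 : (Finset.univ.filter fun p => gc.dec x3 p = p) = om 0x860007 :=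
  inH_x3.1.filter_fix (by decide +kernel)
theorem fix_y3 : (Finset.univ.filter fun p => gc.dec y3 p = p) = om 0 :=
  inH_y3.1.filter_fix (by decide +kernel)

theorem small_three {gs : List ℕ} (hv : ∀ g ∈ gs, gc.Valid g) {n N : ℕ}
    (h : bfsH 31 5 (mapL (mulN 24) gs) 1 (idN 24) (fun _ L => band (Nat.beq (lenL L) n) (band
      (Nat.beq (countL L fun y => anyN 24 fun i => Nat.beq (app y i) i) N)
      (allL L fun y => Nat.beq (powN 24 y 3) (idN 24)))) = true) :
    Nat.card (gc.gen gs) = n ∧ {s | s ∈ (gc.gen gs : Set (Equiv.Perm GolayPt)) ∧ ∃ p, s p = p}.ncard = N ∧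
      ∀ s ∈ gc.gen gs, s ≠ 1 → orderOf s = 3 := by
  obtain ⟨mem, t, L, h1, h2, -⟩ := Coding.enum_gen hv h
  rw [band_iff, band_iff, beq_iff, beq_iff, allL_iff] at h1
  refine ⟨by rw [← h1.1, ← h2.ncard]; rfl, ?_, fun s hs h0 => ?_⟩
  · rw [← h1.2.1]
    refine h2.ncard_filter (fun s => ∃ p, s p = p) _ fun y hy => ?_
    rw [anyN_iff]
    constructor
    · rintro ⟨p, hp⟩
      obtain ⟨i, hi, rfl⟩ := gc.exists_pt p
      exact ⟨i, hi, beq_iff.mpr ((gc.pt_inj (Coding.Valid.app_lt hy hi) hi).mp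
        ((Coding.Valid.dec_pt hy hi).symm.trans hp))⟩
    · rintro ⟨i, hi, e⟩
      exact ⟨gc.pt i, (Coding.Valid.dec_pt hy hi).trans (by rw [beq_iff.mp e])⟩
  · obtain ⟨y, hy, rfl⟩ := h2.surj s hs
    have : Fact (Nat.Prime 3) := ⟨Nat.prime_three⟩
    exact orderOf_eq_prime ((Coding.Valid.pow_eq_one_iff (h2.valid y hy) 3).mpr (beq_iff.mp (h1.2.2 y hy))) h0

theorem S9_spec : Nat.card (gc.gen gS9) = 9 ∧
    {s | s ∈ (gc.gen gS9 : Set (Equiv.Perm GolayPt)) ∧ ∃ p, s p = p}.ncard = 9 ∧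
      ∀ s ∈ gc.gen gS9, s ≠ 1 → orderOf s = 3 :=
  small_three (fun g hg => (inH_gS9 g hg).1) (by decide +kernel)

theorem S27_spec : Nat.card (gc.gen gS3) = 27 ∧
    {s | s ∈ (gc.gen gS3 : Set (Equiv.Perm GolayPt)) ∧ ∃ p, s p = p}.ncard = 15 ∧
      ∀ s ∈ gc.gen gS3, s ≠ 1 → orderOf s = 3 :=
  small_three (fun g hg => (inH_gS3 g hg).1) (by decide +kernel)

theorem M22_three {g : Equiv.Perm GolayPt} (hg : g ∈ M22) (h : orderOf g = 3) :
    ∃ k ∈ M22, g = k * gc.dec x3 * k⁻¹ := by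
  simpa using Coding.prime_classes inH_gS9 Nat.prime_three (n := 49280) (by rw [card_M22, S9_spec.1])
    (by norm_num) (Z := [x3])
    (T := [(0x17161514131211100f0e0d0c0b0a09080706050403020100, x3),
      (0x1710060d0301141513110b0805090a0f0e16020c12070400, x3),
      (0x170714080c0a0111130b05160912041503020e0d0f061000, x3),
      (0x1716090b0501021003040e0d0f061513080a070c14121100, x3),
      (0x1711120a031615040f050c130814020e10070b060d090100, x3),
      (0x17100a0d080107090f1205030b1506130c16020e11140400, x3),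
      (0x1711020510150907060e0a0f0314120c0d04130b08011600, x3),
      (0x1714070e16061002150c09030d1204080b11130f05010a00, x3)])
    (inH_M22 (by decide +kernel)) (valid_of_allL (by decide +kernel)) (by decide +kernel)
    (by decide +kernel) hg (h ▸ pow_orderOf_eq_one g) (by rintro rfl; simp at h)

theorem M22_invol {g : Equiv.Perm GolayPt} (hg : g ∈ M22) (h : orderOf g = 2) :
    ∃ k ∈ M22, g = k * gc.dec z2A * k⁻¹ := by
  simpa using Coding.prime_classes (ss := [0x171209060a16110c070e0b100d1315040f14050803020100,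
      0x1716070b0614030d0c1110090a12080f13150e0405010200, 0x1716060f070c0e1014110d1208090a0b1315030405020100])
    (inH_M22 (by decide +kernel)) Nat.prime_two (n := 3465)
    (by rw [card_M22, Coding.card_gen (valid_of_allL (by decide +kernel)) (M := 127) (d := 7) (a := 3)
      (n := 128) (by decide +kernel)])
    (by norm_num) (Z := [z2A])
    (T := [(0x17161514131211100f0e0d0c0b0a09080706050403020100, z2A),
      (0x17050e040307020c0d090b1610150613120801110a140f00, z2A),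
      (0x170f0b03141311120e0d0a01021604150809050c10070600, z2A),
      (0x170b08120d07110a100106160c0f150914130e0403020500, z2A),
      (0x17040a05140308090e020f1506130711100d0c16010b1200, z2A),
      (0x17090710161305061503040f1208140d0a0b020c0e011100, z2A),
      (0x17100a0c0f120309080114071315060b0d16110402050e00, z2A)])
    (inH_M22 (by decide +kernel)) (valid_of_allL (by decide +kernel)) (by decide +kernel)
    (by decide +kernel) hg (h ▸ pow_orderOf_eq_one g) (by rintro rfl; simp at h)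

theorem mem_fix_x3 {g : Equiv.Perm GolayPt} (hg : g ∈ Subgroup.centralizer {gc.dec x3}) {i : ℕ}
    (hi : i < 24) (h : tb 0x860007 i = true) : g (gc.pt i) ∈ om 0x860007 := by
  have h1 := (pt_mem_om hi).mpr h
  rw [← fix_x3, Finset.mem_filter] at h1 ⊢
  exact ⟨Finset.mem_univ _, fix_of_comm (Subgroup.mem_centralizer_singleton_iff.mp hg) h1.2⟩

theorem card_C22_x3 : Nat.card ↥(M22 ⊓ Subgroup.centralizer {gc.dec x3}) ≤ 36 := by
  have h1 : Nat.card ↥(M21 ⊓ Subgroup.centralizer {gc.dec x3}) = 9 :=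
    Coding.card_centralizer gen_gM21 (fun g hg => (inH_gM21 g hg).1) inH_x3.1 (n := 2240) card_M21
      (M := 4093) (d := 12) (a := 36) (by decide +kernel)
  have h2 := card_le_orbit_mul (K := M22 ⊓ Subgroup.centralizer {gc.dec x3})
    (L := M21 ⊓ Subgroup.centralizer {gc.dec x3}) (gc.pt 1) (((om 0x860007).erase none).erase (some 0))
    (fun g hg => by
      obtain ⟨-, e1, e2⟩ := mem_M22.mp hg.1
      refine Finset.mem_erase.mpr ⟨fun e => ?_, Finset.mem_erase.mpr ⟨fun e => ?_,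
        mem_fix_x3 hg.2 (by decide) (by decide)⟩⟩
      · exact absurd (g.injective (e.trans e2.symm)) (by decide)
      · exact absurd (g.injective (e.trans e1.symm)) (by decide))
    (fun g hg e => ⟨⟨hg.1, e⟩, hg.2⟩)
  rw [h1, Finset.card_erase_of_mem (Finset.mem_erase.mpr ⟨by decide, zero_mem_om.mpr (by decide)⟩),
    Finset.card_erase_of_mem (none_mem_om.mpr (by decide)), card_om] at h2
  exact h2

theorem card_C24_x3 : Nat.card ↥(M24 ⊓ Subgroup.centralizer {gc.dec x3}) ≤ 1296 := by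
  have h1 := card_le_orbit_mul (K := M24 ⊓ Subgroup.centralizer {gc.dec x3})
    (L := M23 ⊓ Subgroup.centralizer {gc.dec x3}) (gc.pt 23) (om 0x860007)
    (fun g hg => mem_fix_x3 hg.2 (by decide) (by decide)) (fun g hg e => ⟨⟨hg.1, e⟩, hg.2⟩)
  have h2 := card_le_orbit_mul (K := M23 ⊓ Subgroup.centralizer {gc.dec x3})
    (L := M22 ⊓ Subgroup.centralizer {gc.dec x3}) (gc.pt 0) (om 0x860007)
    (fun g hg => mem_fix_x3 hg.2 (by decide) (by decide)) (fun g hg e => ⟨⟨hg.1, e⟩, hg.2⟩)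
  have h3 := card_C22_x3
  rw [card_om, show pop24 0x860007 = 6 by decide +kernel] at h1 h2
  omega

theorem card_C24_y3 : Nat.card ↥(M24 ⊓ Subgroup.centralizer {gc.dec y3}) ≤ 504 := by
  have h1 : Nat.card ↥(M21 ⊓ Subgroup.centralizer {gc.dec y3}) = 21 :=
    Coding.card_centralizer gen_gM21 (fun g hg => (inH_gM21 g hg).1) inH_y3.1 (n := 960) card_M21
      (M := 1021) (d := 10) (a := 16) (by decide +kernel)
  have e1 : gc.dec y3 none = some 0 := inH_y3.1.dec_pt (i := 23) (by decide)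
  have e2 : gc.dec y3 (some 0) = some 1 := inH_y3.1.dec_pt (i := 0) (by decide)
  have h2 := card_le_orbit_mul (K := M24 ⊓ Subgroup.centralizer {gc.dec y3})
    (L := M21 ⊓ Subgroup.centralizer {gc.dec y3}) none Finset.univ (fun _ _ => Finset.mem_univ _)
    (fun g hg e => by
      have hc := Subgroup.mem_centralizer_singleton_iff.mp hg.2
      have a : g (some 0) = some 0 := by
        rw [← e1, ← Equiv.Perm.mul_apply, hc, Equiv.Perm.mul_apply, e]
      have b : g (some 1) = some 1 := by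
        rw [← e2, ← Equiv.Perm.mul_apply, hc, Equiv.Perm.mul_apply, a]
      exact ⟨mem_M21.mpr ⟨hg.1, e, a, b⟩, hg.2⟩)
  rw [h1, Finset.card_univ, card_golayPt] at h2
  exact h2

theorem dvd_cent {H : Subgroup (Equiv.Perm GolayPt)} {gs : List ℕ} (h : ∀ g ∈ gs, gc.InH H g) {z n : ℕ}
    (hz : gc.Valid z) (h2 : allL gs (fun g => Nat.beq (mulN 24 g z) (mulN 24 z g)) = true)
    (h3 : bfsH 251 8 (mapL (mulN 24) gs) 4 (idN 24) (fun _ L => Nat.beq (lenL L) n) = true) :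
    n ∣ Nat.card ↥(H ⊓ Subgroup.centralizer {gc.dec z}) := by
  rw [← Coding.card_gen (fun g hg => (h g hg).1) h3]
  exact Subgroup.card_dvd_of_le (Coding.gen_le (inH_inf_cent h hz h2))

theorem val_conj {G : Type*} [Group G] {H : Subgroup G} {χ : H → ℂ} (hχ : IsIrrCharacter H χ) {s z : H}
    {w : G} (h1 : ∃ k ∈ H, (s : G) = k * w * k⁻¹) (h2 : ∃ k ∈ H, (z : G) = k * w * k⁻¹) : χ s = χ z := by
  obtain ⟨k, hk, e⟩ := h1
  obtain ⟨l, hl, e'⟩ := h2
  have : s = (⟨k, hk⟩ * ⟨l, hl⟩⁻¹ : H) * z * (⟨k, hk⟩ * ⟨l, hl⟩⁻¹ : H)⁻¹ := Subtype.ext (by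
    simp only [Subgroup.coe_mul, Subgroup.coe_inv, e, e']; group)
  rw [this, hχ.isClassFunction]

theorem orderOf_sq_three {G : Type*} [Group G] {x : G} (h : orderOf x = 3) : orderOf (x ^ 2) = 3 := by
  rw [orderOf_pow' x two_ne_zero, h]; rfl

theorem two_pow_dvd {d n k : ℕ} (h : d.factorization 2 = n.factorization 2) (hd : 0 < d) (hn : 0 < n)
    (hk : 2 ^ k ∣ n) : 2 ^ k ∣ d :=
  (Nat.prime_two.pow_dvd_iff_le_factorization hd.ne').mpr
    (h ▸ (Nat.prime_two.pow_dvd_iff_le_factorization hn.ne').mp hk)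

theorem abs_le_of_sq {a : ℤ} {n : ℕ} (h : a ^ 2 ≤ n) (m : ℕ) (hm : n < (m + 1) ^ 2) : -m ≤ a ∧ a ≤ m := by
  have : (n : ℤ) < (m + 1) ^ 2 := by exact_mod_cast hm
  have := abs_lt_of_sq_lt_sq' (h.trans_lt this) (by positivity)
  omega

theorem M22_arith {k : ℕ} {a : ℤ} (h1 : a ^ 2 ≤ (36 : ℕ)) (h2 : ((2 ^ 7 * k * 4 : ℕ) : ℤ) ∣ (443520 : ℕ) * a)
    (h3 : ((9 : ℕ) : ℤ) ∣ (2 ^ 7 * k : ℕ) - a + (9 : ℕ) * (a - 0)) (h4 : (2 ^ 7 * k) ^ 2 ≤ 443520)
    (h5 : 2 ^ 7 * k ∣ 443520) : False := by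
  have b1 := abs_le_of_sq h1 6 (by norm_num)
  have b3 : k ≤ 5 := by nlinarith
  clear h1 h4
  interval_cases k <;> omega

theorem M24_arith {k : ℕ} {a b : ℤ} (h1 : a ^ 2 ≤ (1296 : ℕ)) (h1' : b ^ 2 ≤ (504 : ℕ))
    (h2 : ((2 ^ 10 * k * 8 : ℕ) : ℤ) ∣ (244823040 : ℕ) * a)
    (h2' : ((2 ^ 10 * k * 168 : ℕ) : ℤ) ∣ (244823040 : ℕ) * b)
    (h3 : ((9 : ℕ) : ℤ) ∣ (2 ^ 10 * k : ℕ) - a + (9 : ℕ) * (a - 0))
    (h3' : ((27 : ℕ) : ℤ) ∣ (2 ^ 10 * k : ℕ) - a + (15 : ℕ) * (a - b))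
    (h4 : (2 ^ 10 * k) ^ 2 ≤ 244823040) (h5 : 2 ^ 10 * k ∣ 244823040) : False := by
  have b1 := abs_le_of_sq h1 36 (by norm_num)
  have b2 := abs_le_of_sq h1' 22 (by norm_num)
  have b3 : k ≤ 15 := by nlinarith
  have c1 : (8 : ℤ) ∣ a := by
    have : (8192 : ℤ) ∣ (244823040 : ℕ) * a := Dvd.dvd.trans ⟨k, by push_cast; ring⟩ h2
    clear * - this; omega
  have c2 : (8 : ℤ) ∣ b := by
    have : (8192 : ℤ) ∣ (244823040 : ℕ) * b := Dvd.dvd.trans ⟨21 * k, by push_cast; ring⟩ h2'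
    clear * - this; omega
  have c3 : k = 7 → (7 : ℤ) ∣ b := by
    rintro rfl
    have : (49 : ℤ) ∣ (244823040 : ℕ) * b := Dvd.dvd.trans (by norm_num) h2'
    clear * - this; omega
  have c4 : k = 1 ∨ k = 3 ∨ k = 5 ∨ k = 7 ∨ k = 9 ∨ k = 11 ∨ k = 15 := by
    clear h1 h1' h2 h2' h3 h3' h4 c3
    interval_cases k <;> simp at h5 ⊢
  obtain ⟨a, rfl⟩ := c1
  obtain ⟨b, rfl⟩ := c2
  clear h1 h1' h2 h2' h4 h5
  push_cast at h3 h3' b1 b2
  rcases c4 with rfl | rfl | rfl | rfl | rfl | rfl | rfl <;> omega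

theorem M22_no_defect_zero (χ : IrrCharacter M22) :
    (charDegree χ.1).factorization 2 ≠ (Nat.card M22).factorization 2 := fun h => by
  let x : M22 := ⟨gc.dec x3, inH_x3.2⟩
  have hv : ∀ s : M22, orderOf (s : Equiv.Perm GolayPt) = 3 → χ.1 s = χ.1 x := fun s hs =>
    val_conj χ.2 (M22_three s.2 hs) (M22_three x.2 orderOf_x3)
  obtain ⟨a, ha⟩ := int_of_three χ.2 (x := x) (Subtype.ext (orderOf_x3 ▸ pow_orderOf_eq_one _))
    (hv _ (orderOf_sq_three orderOf_x3))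
  have h1 := sq_le_cent χ.2 ha ((card_cent_coe M22 x).trans_le card_C22_x3)
  have h2 := deg_mul_dvd χ.2 ha (e := 4) ((card_cent_coe M22 x).symm ▸ dvd_cent (gs :=
    [0x1716150f07111210140c040e030a09051306080d0b010200, 0x1716150803020110050d0e04070a09140b060f0c13121100])
    (inH_M22 (by decide +kernel)) inH_x3.1 (by decide +kernel) (by decide +kernel))
  have h3 := dvd_sum_three (Coding.gen_le inH_gS9) χ.2 (fun _ => True) trivial (a := a) (b := 0)
    (fun s hs h0 _ => (hv s (S9_spec.2.2 s hs fun e => h0 (Subtype.ext e))).trans ha)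
    (fun _ _ h => absurd trivial h) S9_spec.1 (N := 9) (by rw [← S9_spec.1]; simp only [and_true]; rfl)
  have h4 := deg_sq_le χ.2
  have h5 := χ.2.charDegree_dvd_card
  obtain ⟨k, hk⟩ := two_pow_dvd h χ.2.charDegree_pos Nat.card_pos (k := 7) (by rw [card_M22]; norm_num)
  rw [card_M22, hk] at h2 h4 h5
  rw [hk] at h3
  exact M22_arith h1 h2 h3 h4 h5

theorem M24_no_defect_zero (χ : IrrCharacter M24) :
    (charDegree χ.1).factorization 2 ≠ (Nat.card M24).factorization 2 := fun h => by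
  let x : M24 := ⟨gc.dec x3, M22_le inH_x3.2⟩
  let y : M24 := ⟨gc.dec y3, inH_y3.2⟩
  have hfx : ∀ {s : Equiv.Perm GolayPt}, (∃ p, s p = p) → (Finset.univ.filter fun p => s p = p).card ≠ 0 :=
    fun ⟨p, hp⟩ e => card_fix_eq_zero.mp e p hp
  have hx : gc.dec x3 none = none := (mem_M22.mp inH_x3.2).2.1
  have hy : ∀ p, gc.dec y3 p ≠ p := card_fix_eq_zero.mp (by rw [fix_y3, card_om]; rfl)
  have hv : ∀ s : M24, orderOf (s : Equiv.Perm GolayPt) = 3 → (∃ p, s.1 p = p) → χ.1 s = χ.1 x :=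
    fun s hs h' => val_conj χ.2 (std_3A s.2 hs (hfx h')) (std_3A x.2 orderOf_x3 (hfx ⟨_, hx⟩))
  have hw : ∀ s : M24, orderOf (s : Equiv.Perm GolayPt) = 3 → (∀ p, s.1 p ≠ p) → χ.1 s = χ.1 y :=
    fun s hs h' => val_conj χ.2 (std_3B s.2 hs h') (std_3B y.2 orderOf_y3 hy)
  obtain ⟨a, ha⟩ := int_of_three χ.2 (x := x) (Subtype.ext (orderOf_x3 ▸ pow_orderOf_eq_one _))
    (hv _ (orderOf_sq_three orderOf_x3) ⟨none, by
      show (gc.dec x3 ^ 2) none = none
      rw [sq, Equiv.Perm.mul_apply, hx, hx]⟩)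
  obtain ⟨b, hb⟩ := int_of_three χ.2 (x := y) (Subtype.ext (orderOf_y3 ▸ pow_orderOf_eq_one _))
    (hw _ (orderOf_sq_three orderOf_y3) fun p e => hy p (by
      have e' : (gc.dec y3 ^ 2) p = p := e
      have : gc.dec y3 ^ 3 = 1 := orderOf_y3 ▸ pow_orderOf_eq_one _
      rw [← e', ← Equiv.Perm.mul_apply, ← pow_succ', this, e']; rfl))
  have h1 := sq_le_cent χ.2 ha ((card_cent_coe M24 x).trans_le card_C24_x3)
  have h1' := sq_le_cent χ.2 hb ((card_cent_coe M24 y).trans_le card_C24_y3)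
  have h2 := deg_mul_dvd χ.2 ha (e := 8) ((card_cent_coe M24 x).symm ▸ dvd_cent (gs :=
    [0x12071415061102030a0b10130f0e040d16050c0908170001, 0x121615140c1702030b0a08130f0e090d0705060410110100])
    (inH_of_allL (by decide +kernel)) inH_x3.1 (by decide +kernel) (by decide +kernel))
  have h2' := deg_mul_dvd χ.2 hb (e := 168) ((card_cent_coe M24 y).symm ▸ dvd_cent (gs :=
    [0xe1411160c08150702170a13010d061210090300050f0b04, 0x3130b140e0d0810040c1505110a00010f07170216091206])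
    (inH_of_allL (by decide +kernel)) inH_y3.1 (by decide +kernel) (by decide +kernel))
  have h3 := dvd_sum_three ((Coding.gen_le inH_gS9).trans M22_le) χ.2 (fun _ => True) trivial (a := a)
    (b := 0) (fun s hs h0 _ => (hv s (S9_spec.2.2 s hs fun e => h0 (Subtype.ext e))
      ⟨none, (mem_M22.mp (Coding.gen_le inH_gS9 hs)).2.1⟩).trans ha)
    (fun _ _ h => absurd trivial h) S9_spec.1 (N := 9) (by rw [← S9_spec.1]; simp only [and_true]; rfl)
  have h3' := dvd_sum_three (Coding.gen_le inH_gS3) χ.2 (fun s => ∃ p, s p = p) ⟨none, rfl⟩ (a := a)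
    (b := b) (fun s hs h0 h' => (hv s (S27_spec.2.2 s hs fun e => h0 (Subtype.ext e)) h').trans ha)
    (fun s hs h' => (hw s (S27_spec.2.2 s hs fun e => h' ⟨none, by rw [e]; rfl⟩)
      fun p e => h' ⟨p, e⟩).trans hb) S27_spec.1 S27_spec.2.1
  have h4 := deg_sq_le χ.2
  have h5 := χ.2.charDegree_dvd_card
  obtain ⟨k, hk⟩ := two_pow_dvd h χ.2.charDegree_pos Nat.card_pos (k := 10) (by rw [card_M24]; norm_num)
  rw [card_M24, hk] at h2 h2' h4 h5
  rw [hk] at h3 h3'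
  exact M24_arith h1 h1' h2 h2' h3 h3' h4 h5

theorem M22_one_block {M : Ideal AlgInt} (hM : IsPModular 2 M) (χ ψ : IrrCharacter M22) :
    SameBlock M χ.1 ψ.1 :=
  sameBlock_of_centCon hM (fun _ hg h => ⟨_, _, centCon_2A M22_le (fun _ hq => mem_M22.mpr
    ⟨hq.1, (mem_E16.mp hq).2 _ (none_mem_om.mpr (by decide)), (mem_E16.mp hq).2 _
      (zero_mem_om.mpr (by decide))⟩), M22_invol hg h⟩) M22_no_defect_zero χ ψ

theorem M24_one_block {M : Ideal AlgInt} (hM : IsPModular 2 M) (χ ψ : IrrCharacter M24) :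
    SameBlock M χ.1 ψ.1 :=
  sameBlock_of_centCon hM (fun _ hg h => (M24_invol hg h).elim
    (fun h' => ⟨_, _, centCon_2A le_rfl inf_le_left, h'⟩) fun h' => ⟨_, _, centCon_2B, h'⟩)
    M24_no_defect_zero χ ψ

end Cfsg.Lib.Golay
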