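import Cfsg.Agent.Lib.Block2.Second
import Cfsg.Agent.Lib.Block2.Frob
import Cfsg.Agent.Lib.Block2.Ker
import Cfsg.Agent.Lib.Block.Height
import Cfsg.Agent.Lib.Char.Integral

/-! Groups whose elements of order `p` have `p`-constrained centralisers: blocks. -/

set_option autoImplicit false
set_option maxHeartbeats 400000

namespace Cfsg.Lib.Golay

open Cfsg Cfsg.Lib.Char

variable {G : Type*} [Group G]

section
open Cfsg.Lib.Block Cfsg.Lib.Block2

/-- `Q` is a normal self-centralising `p`-subgroup of the centraliser of `x` in `H`. -/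
structure CentCon (p : ℕ) (H : Subgroup G) (x : G) (Q : Subgroup G) : Prop where
  pg : IsPGroup p Q
  norm : ∀ c ∈ H, c * x = x * c → ∀ q ∈ Q, c * q * c⁻¹ ∈ Q
  le : ∀ q ∈ Q, q ∈ H ∧ q * x = x * q
  self : ∀ c ∈ H, c * x = x * c → (∀ q ∈ Q, c * q = q * c) → c ∈ Q

theorem CentCon.mem_principal [Finite G] {p : ℕ} {M : Ideal AlgInt} (hM : IsPModular p M)
    {H : Subgroup G} {x : H} {Q : Subgroup G} (h : CentCon p H x Q) (hx : ∃ k, orderOf x = p ^ k)
    {χ : IrrCharacter H} (h0 : χ.1 x ≠ 0) : χ ∈ principalBlock M H := by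
  classical
  haveI := hM.2.1
  haveI := Fact.mk hM.1
  set C := Subgroup.centralizer ({x} : Set H)
  have hC : ∀ c : C, ((c : H) : G) * x = x * c := fun c =>
    congrArg Subtype.val (Subgroup.mem_centralizer_singleton_iff.mp c.2)
  let P : Subgroup C := Q.comap (H.subtype.comp C.subtype)
  haveI : P.Normal := ⟨fun q hq c => h.norm _ c.1.2 (hC c) _ hq⟩
  have hP : IsPGroup p P := h.pg.comap_of_injective _ (H.subtype_injective.comp C.subtype_injective)
  have hall := sameBlock_of_cent_le hM hP (fun c hc => h.self _ c.1.2 (hC c) fun q hq => by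
    let q' : C := ⟨⟨q, (h.le q hq).1⟩, Subgroup.mem_centralizer_singleton_iff.mpr (Subtype.ext (h.le q hq).2)⟩
    exact congrArg (fun y : C => ((y : H) : G)) (hc q' hq).symm)
  by_cases hi : IsInducedBlock M C (principalBlock M C) (blockOf M χ.1)
  · rw [← (hi.eq_principalBlock_iff hM).mpr rfl]; exact mem_blockOf_self χ
  · have h1 := second_main hM hx (isPBlock_blockOf χ) (mem_blockOf_self χ) isPBlock_principalBlock hi
      (y := 1) (by rw [orderOf_one, Nat.dvd_one]; exact hM.1.ne_one)
    haveI := Fintype.ofFinite C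
    rw [blockPart_eq, Finset.filter_true_of_mem (fun ξ _ => show ξ ∈ principalBlock M _ from hall (principalIrr C) ξ),
      ← (isClassFunction_mul_left χ.2.isClassFunction x).eq_sum] at h1
    exact absurd (by simpa using h1) h0

/-- one block, if the centralisers are constrained and there is no character of defect zero. -/
theorem sameBlock_of_centCon [Finite G] {p : ℕ} {M : Ideal AlgInt} (hM : IsPModular p M)
    {H : Subgroup G} (hc : ∀ g ∈ H, orderOf g = p → ∃ z Q, CentCon p H z Q ∧ ∃ k ∈ H, g = k * z * k⁻¹)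
    (hd : ∀ χ : IrrCharacter H, (charDegree χ.1).factorization p ≠ (Nat.card H).factorization p)
    (χ ψ : IrrCharacter H) : SameBlock M χ.1 ψ.1 := by
  haveI := hM.2.1
  have key : ∀ χ : IrrCharacter H, χ ∈ principalBlock M H := fun χ => by
    by_contra hn
    refine hd χ (defectZero_of_vanish_orderOf_eq hM.1 χ.2 fun g hg => ?_)
    obtain ⟨z, Q, h, k, hk, e⟩ := hc g g.2 (by rw [← hg, Subgroup.orderOf_coe])
    have hz : z ∈ H := by
      have : z = k⁻¹ * g * k := by rw [e]; group
      rw [this]; exact mul_mem (mul_mem (inv_mem hk) g.2) hk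
    have e' : g = ⟨k, hk⟩ * ⟨z, hz⟩ * ⟨k, hk⟩⁻¹ := Subtype.ext e
    by_contra h0
    rw [e', χ.2.isClassFunction] at h0
    refine hn (CentCon.mem_principal hM (x := ⟨z, hz⟩) h ⟨1, ?_⟩ h0)
    rw [pow_one, ← hg, e']; exact ((MulAut.conj (⟨k, hk⟩ : H)).orderOf_eq _).symm
  exact (key χ).symm.trans (key ψ)

end

theorem int_of_three [Finite G] {χ : G → ℂ} (hχ : IsIrrCharacter G χ) {x : G} (hx : x ^ 3 = 1)
    (h : χ (x ^ 2) = χ x) : ∃ a : ℤ, χ x = a :=
  hχ.isGeneralizedCharacter.exists_int_of_pow (n := 3) (by norm_num) hx fun k hk => by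
    have h3 : k % 3 = 1 ∨ k % 3 = 2 := by
      have : ¬ 3 ∣ k := fun h3 => by
        have := Nat.dvd_gcd h3 (dvd_refl 3)
        rw [hk] at this; omega
      omega
    rw [pow_eq_pow_mod k hx]
    rcases h3 with e | e <;> rw [e]
    · rw [pow_one]
    · exact h

theorem card_cent_coe (H : Subgroup G) (x : H) :
    Nat.card (Subgroup.centralizer ({x} : Set H)) = Nat.card ↥(H ⊓ Subgroup.centralizer {(x : G)}) := by
  have : Subgroup.centralizer ({x} : Set H) = (H ⊓ Subgroup.centralizer {(x : G)}).subgroupOf H := by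
    ext y
    rw [Subgroup.mem_subgroupOf, Subgroup.mem_inf, Subgroup.mem_centralizer_singleton_iff,
      Subgroup.mem_centralizer_singleton_iff, Subtype.ext_iff]
    simp
  rw [this]
  exact Nat.card_congr (Subgroup.subgroupOfEquivOfLe inf_le_left).toEquiv

/-- integrality of the central character at an element with an integral value. -/
theorem deg_mul_dvd [Finite G] {χ : G → ℂ} (hχ : IsIrrCharacter G χ) {x : G} {a : ℤ} (ha : χ x = a)
    {e : ℕ} (he : e ∣ Nat.card (Subgroup.centralizer ({x} : Set G))) :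
    ((charDegree χ * e : ℕ) : ℤ) ∣ Nat.card G * a := by
  have h1 := hχ.isIntegral_centralChar x
  have hd : (charDegree χ : ℂ) ≠ 0 := by exact_mod_cast hχ.charDegree_pos.ne'
  rw [centralChar, ha, ← hχ.coe_charDegree] at h1
  have h2 : (((Subgroup.centralizer ({x} : Set G)).index : ℂ) * a / charDegree χ) =
      algebraMap ℚ ℂ (((Subgroup.centralizer ({x} : Set G)).index : ℚ) * a / charDegree χ) := by simp
  rw [h2, isIntegral_algebraMap_iff (algebraMap ℚ ℂ).injective] at h1
  obtain ⟨w, hw⟩ := IsIntegrallyClosed.isIntegral_iff.mp h1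
  have hd' : (charDegree χ : ℚ) ≠ 0 := by exact_mod_cast hχ.charDegree_pos.ne'
  rw [eq_div_iff hd'] at hw
  have hw' : w * charDegree χ = (Subgroup.centralizer ({x} : Set G)).index * a := by
    simp only [eq_intCast] at hw; exact_mod_cast hw
  obtain ⟨c, hc⟩ := he
  refine ⟨w * c, ?_⟩
  rw [← (Subgroup.centralizer ({x} : Set G)).card_mul_index, hc]
  push_cast
  linear_combination (e * c : ℤ) * hw'.symm

theorem sq_le_cent [Finite G] {χ : G → ℂ} (hχ : IsIrrCharacter G χ) {x : G} {a : ℤ} (ha : χ x = a)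
    {n : ℕ} (hn : Nat.card (Subgroup.centralizer ({x} : Set G)) ≤ n) : a ^ 2 ≤ n := by
  have h1 := hχ.norm_sq_le_card_centralizer x
  rw [ha, Complex.norm_intCast, sq_abs] at h1
  have : (a : ℝ) ^ 2 ≤ n := h1.trans (by exact_mod_cast hn)
  exact_mod_cast this

theorem deg_sq_le [Finite G] {χ : G → ℂ} (hχ : IsIrrCharacter G χ) : charDegree χ ^ 2 ≤ Nat.card G := by
  have := sq_le_cent hχ (x := 1) (a := charDegree χ) (by rw [← hχ.coe_charDegree]; simp)
    (Subgroup.card_le_card_group _)
  exact_mod_cast this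

/-- the sum of a character over a subgroup on which it takes three integral values. -/
theorem dvd_sum_three [Finite G] {H K : Subgroup G} (hK : K ≤ H) {χ : H → ℂ}
    (hχ : IsIrrCharacter H χ) (P : G → Prop) (h1 : P 1) {a b : ℤ}
    (ha : ∀ s : H, (s : G) ∈ K → s ≠ 1 → P s → χ s = a) (hb : ∀ s : H, (s : G) ∈ K → ¬ P s → χ s = b)
    {n N : ℕ} (hn : Nat.card K = n) (hN : {s | s ∈ (K : Set G) ∧ P s}.ncard = N) :
    (n : ℤ) ∣ charDegree χ - a + N * (a - b) := by
  classical
  haveI := Fintype.ofFinite K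
  obtain ⟨m, hm⟩ := (hχ.isCharacter.comp (Subgroup.inclusion hK)).classInner_nat isCharacter_one
  have hn0 : (n : ℂ) ≠ 0 := by rw [← hn]; exact_mod_cast Nat.card_pos.ne'
  rw [classInner, hn, inv_mul_eq_iff_eq_mul₀ hn0] at hm
  have h2 : ∀ s : K, χ (Subgroup.inclusion hK s) * (starRingEnd ℂ) 1 =
      (if s = 1 then (charDegree χ - a : ℂ) else 0) + (if P s then (a - b : ℂ) else 0) + b := fun s => by
    rw [map_one, mul_one]
    by_cases e : s = 1
    · rw [if_pos e, e, map_one, if_pos (by simpa using h1), hχ.coe_charDegree]; ring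
    · by_cases e' : P s
      · rw [if_neg e, if_pos e', ha _ s.2 (fun h => e (Subgroup.inclusion_injective hK (by simpa using h))) e']
        ring
      · rw [if_neg e, if_neg e', hb _ s.2 e']; ring
  have h3 : (Finset.univ.filter fun s : K => P s).card = N := by
    rw [← hN, ← Set.ncard_coe_finset]
    exact Set.ncard_congr (fun s _ => (s : G)) (fun s hs => ⟨s.2, by simpa using hs⟩)
      (fun _ _ _ _ e => Subtype.ext e) fun s hs => ⟨⟨s, hs.1⟩, by simpa using hs.2, rfl⟩
  rw [Finset.sum_congr rfl fun s _ => h2 s, Finset.sum_add_distrib, Finset.sum_add_distrib,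
    Finset.sum_ite_eq', if_pos (Finset.mem_univ _), ← Finset.sum_filter, Finset.sum_const, h3,
    Finset.sum_const, Finset.card_univ, ← Nat.card_eq_fintype_card, hn, nsmul_eq_mul, nsmul_eq_mul] at hm
  refine ⟨m - b, ?_⟩
  have : ((charDegree χ - a + N * (a - b) : ℤ) : ℂ) = (n * (m - b) : ℤ) := by
    push_cast; linear_combination hm
  exact_mod_cast this

end Cfsg.Lib.Golay
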