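import Cfsg.Agent.Lib.Golay.Model
import Cfsg.Agent.Lib.Leech.RankSimple
import Mathlib.Combinatorics.SimpleGraph.StronglyRegular

/-! Graphs given by adjacency rows; the Higman–Sims graph and the `M22` graph. -/

set_option autoImplicit false
set_option maxRecDepth 100000
set_option maxHeartbeats 400000

namespace Cfsg.Lib.Golay

open MulAction Spor
open scoped Pointwise

section rows
variable {V V' : Type*} {c : Coding V} {G : SimpleGraph V} {row : ℕ → ℕ}

/-- the coded graph `G` has adjacency rows `row`. -/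
def Rows (c : Coding V) (G : SimpleGraph V) (row : ℕ → ℕ) : Prop :=
  ∀ i < c.n, ∀ j < c.n, G.Adj (c.pt i) (c.pt j) ↔ tb (row i) j = true

theorem Rows.adj (h : Rows c G row) (u v : V) : G.Adj u v ↔ tb (row (c.idx u)) (c.idx v) = true := by
  rw [← h _ (c.idx_lt u) _ (c.idx_lt v), c.pt_idx, c.pt_idx]

theorem Rows.iso {c' : Coding V'} {G' : SimpleGraph V'} (h : Rows c G row) (h' : Rows c' G' row)
    (hn : c.n = c'.n) : Nonempty (G ≃g G') :=
  ⟨⟨⟨fun u => c'.pt (c.idx u), fun u => c.pt (c'.idx u),
    fun u => by simp only [c'.idx_pt _ (hn ▸ c.idx_lt u), c.pt_idx],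
    fun u => by simp only [c.idx_pt _ (hn ▸ c'.idx_lt u), c'.pt_idx]⟩, fun {u v} =>
      (h' _ (hn ▸ c.idx_lt u) _ (hn ▸ c.idx_lt v)).trans (h.adj u v).symm⟩⟩

theorem Rows.mem [Fintype V] (h : Rows c G row) {i : ℕ} (hi : i < c.n) (v : V) :
    v ∈ c.ofMask (row i) ↔ G.Adj (c.pt i) v := by
  rw [h.adj, c.idx_pt i hi, c.mem_ofMask, tb_eq]

theorem Rows.srg [Fintype V] [DecidableRel G.Adj] (h : Rows c G row) {n k l m : ℕ} (hn : c.n = n)
    (hc : allN n (fun i => forceN (row i) fun r => band (Nat.beq (popN n r) k) (allN n fun j =>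
      forceN (Nat.land r (row j)) fun x => bif' (tb r j) (Nat.beq (popN n x) l)
        (bor (Nat.beq i j) (Nat.beq (popN n x) m)))) = true) : G.IsSRGWith n k l m := by
  classical
  subst hn
  have h0 : ∀ i < c.n, _ := fun i hi => band_iff.mp (allN_iff.mp hc i hi)
  have h1 : ∀ i < c.n, ∀ j < c.n, Fintype.card (G.commonNeighbors (c.pt i) (c.pt j)) =
      popN c.n (row i &&& row j) := fun i hi j hj => by
    rw [← c.card_inter_ofMask, ← Set.toFinset_card]
    congr 1; ext v; simp [h.mem hi, h.mem hj, SimpleGraph.mem_commonNeighbors]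
  refine ⟨c.card_eq, c.forall_iff.mpr fun i hi => ?_, c.forall_iff.mpr fun i hi => c.forall_iff.mpr
    fun j hj h2 => ?_, c.forall_iff.mpr fun i hi => c.forall_iff.mpr fun j hj h3 h2 => ?_⟩
  · rw [← beq_iff.mp (h0 i hi).1, ← c.card_ofMask, SimpleGraph.degree]
    congr 1; ext v; simp [h.mem hi]
  · rw [h1 i hi j hj]
    exact beq_iff.mp ((bif'_pos ((h i hi j hj).mp h2) _ _).symm.trans (allN_iff.mp (h0 i hi).2 j hj))
  · rw [h1 i hi j hj]
    exact beq_iff.mp ((bor_iff.mp ((bif'_neg ((h i hi j hj).not.mp h2) _ _).symm.trans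
      (allN_iff.mp (h0 i hi).2 j hj))).resolve_left fun e => h3 (by rw [beq_iff.mp e]))

/-- the automorphism group of a graph as a permutation group. -/
def autG (G : SimpleGraph V) : Subgroup (Equiv.Perm V) where
  carrier := {σ | ∀ u v, G.Adj (σ u) (σ v) ↔ G.Adj u v}
  one_mem' _ _ := Iff.rfl
  mul_mem' h h' u v := (h _ _).trans (h' u v)
  inv_mem' {σ} h u v := by rw [← h]; simp

/-- the two forms of the automorphism group. -/
def autEquiv (G : SimpleGraph V) : (G ≃g G) ≃* autG G where
  toFun e := ⟨e.toEquiv, fun _ _ => e.map_rel_iff⟩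
  invFun σ := ⟨σ.1, σ.2 _ _⟩
  left_inv _ := rfl
  right_inv _ := rfl
  map_mul' _ _ := rfl

theorem Rows.inH [Fintype V] (h : Rows c G row) {n : ℕ} (hn : c.n = n) {gs : List ℕ}
    (hc : allL gs (fun g => band (isPerm n g)
      (allN n fun i => Nat.beq (imgN n g (row i)) (row (app g i)))) = true) :
    ∀ g ∈ gs, c.InH (autG G) g := fun g hg => by
  classical
  subst hn
  obtain ⟨h1, h2⟩ := band_iff.mp (allL_iff.mp hc g hg)
  have hv := Coding.valid_of_isPerm h1
  refine ⟨hv, c.forall_iff.mpr fun i hi v => ?_⟩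
  rw [hv.dec_pt hi, ← h.mem hi, ← h.mem (hv.app_lt hi), ← beq_iff.mp (allN_iff.mp h2 i hi),
    ← hv.smul_ofMask, mem_smul_iff]

/-- certificate for an upper bound of the pointwise stabiliser of `F` in the automorphism group. -/
noncomputable def gupper (n : ℕ) (row : ℕ → ℕ) (lv : List (ℕ × ℕ)) : ℕ → Bool :=
  List.rec (fun F => allN n (tb F)) (fun l _ r F => band (Nat.ble (Nat.succ l.1) n) (band (bnot (tb F l.1))
    (band (Nat.ble (countN n fun q => band (bnot (tb F q))
      (Nat.beq (Nat.land (row q) F) (Nat.land (row l.1) F))) l.2)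
      (forceN (Nat.lor F (Nat.shiftLeft 1 l.1)) r)))) lv

theorem Rows.card_le [Fintype V] (h : Rows c G row) (hr : ∀ i < c.n, row i < 2 ^ c.n)
    (lv : List (ℕ × ℕ)) {F : ℕ} {H : Subgroup (Equiv.Perm V)} (hH : H ≤ autG G)
    (hF : ∀ σ ∈ H, ∀ p ∈ c.ofMask F, σ p = p) (hc : gupper c.n row lv F = true) :
    Nat.card H ≤ (lv.map Prod.snd).prod := by
  classical
  induction lv generalizing F H with
  | nil =>
    rw [show H = ⊥ from eq_bot_iff.mpr fun σ hσ => Equiv.ext (c.forall_iff.mpr fun i hi =>
      hF σ hσ _ ((c.pt_mem_ofMask hi).mpr (allN_iff.mp hc i hi))), Subgroup.card_bot]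
    exact le_rfl
  | cons l lv ih =>
    obtain ⟨h1, hc⟩ := band_iff.mp hc
    obtain ⟨h2, hc⟩ := band_iff.mp hc
    obtain ⟨h3, h4⟩ := band_iff.mp hc
    rw [ble_iff] at h1 h3
    rw [card_eq_orbit_mul H (c.pt l.1), List.map_cons, List.prod_cons]
    refine Nat.mul_le_mul (le_trans ?_ h3) (ih (inf_le_left.trans hH) (fun σ hσ p hp => ?_) h4)
    · rw [countN_eq, ← Set.ncard_coe_finset]
      refine Set.ncard_le_ncard_of_injOn c.idx ?_ c.idx_injective.injOn
      rintro _ ⟨⟨σ, hσ⟩, rfl⟩
      have h5 : σ (c.pt l.1) ∉ c.ofMask F := fun h5 => bnot_iff.mp h2 ((c.pt_mem_ofMask h1).mp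
        (σ.injective (hF σ hσ _ h5) ▸ h5))
      refine Finset.mem_filter.mpr ⟨Finset.mem_range.mpr (c.idx_lt _), band_iff.mpr ⟨bnot_iff.mpr
        (by rwa [tb_eq, ← c.mem_ofMask]), beq_iff.mpr ((c.ofMask_inj
          (Nat.and_le_left.trans_lt (hr _ (c.idx_lt _))) (Nat.and_le_left.trans_lt (hr _ h1))).mp ?_)⟩⟩
      rw [c.ofMask_land, c.ofMask_land]
      ext v
      rw [Finset.mem_inter, Finset.mem_inter, h.mem h1, h.mem (c.idx_lt _), c.pt_idx]
      exact and_congr_left fun hv => by rw [← hH hσ (c.pt l.1), hF σ hσ v hv]; rfl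
    · rw [show Nat.lor F (Nat.shiftLeft 1 l.1) = F ||| 2 ^ l.1 by rw [shl_eq', Nat.one_shiftLeft]; rfl,
        c.ofMask_lor, c.ofMask_two_pow h1, Finset.mem_union, Finset.mem_singleton] at hp
      rcases hp with hp | rfl
      exacts [hF σ hσ.1 p hp, hσ.2]

theorem exists_coding_of_range {X : Type*} {ν : V → X} (hν : Function.Injective ν) {n : ℕ}
    (hn : n ≤ 256) (μ : ℕ → X) (hμ : ∀ i < n, ∀ j < n, μ i = μ j → i = j)
    (h1 : ∀ v, ∃ i < n, μ i = ν v) (h2 : ∀ i < n, ∃ v, ν v = μ i) (h0 : 0 < n) :
    ∃ c : Coding V, c.n = n ∧ ∀ i < n, ν (c.pt i) = μ i := by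
  have : Nonempty V := ⟨(h2 0 h0).choose⟩
  choose idx a1 a2 using h1
  choose! pt a3 using h2
  exact ⟨⟨n, idx, pt, hn, a1, fun a => hν (by rw [a3 _ (a1 a), a2]), fun i hi =>
    hμ _ (a1 _) _ hi (by rw [a2, a3 i hi])⟩, rfl, a3⟩

end rows

/-! ### The Higman–Sims graph -/

/-- the adjacency relation of the Higman–Sims graph on `∅`, points and hexads. -/
def hsRel {α : Type*} [DecidableEq α] (s t : Finset α) : Prop :=
  s.card + t.card = 1 ∨ (s.card + t.card = 7 ∧ (s ∩ t).card = 1) ∨
    (s.card + t.card = 12 ∧ (s ∩ t).card = 0)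

/-- the 77 hexads. -/
def hex77 : List ℕ := [0xc74, 0x254a, 0x5e08, 0x81b2, 0xa88c, 0x14584, 0x1b300, 0x1c842, 0x21252, 0x2402e, 0x26910,
  0x320e0, 0x38418, 0x41906, 0x43038, 0x46244, 0x494c0, 0x5028a, 0x60720, 0x82690, 0x88268, 0x8d014,
  0x91422, 0xa1188, 0xb0a04, 0xc48a0, 0xd0150, 0xea002, 0x100bc0, 0x107082, 0x108606, 0x11104c,
  0x114230, 0x129820, 0x14c108, 0x152c00, 0x160094, 0x18081a, 0x182124, 0x1a4440, 0x20031c,
  0x202a22, 0x205160, 0x211890, 0x223404, 0x22c280, 0x244412, 0x258024, 0x260848, 0x2800c6,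
  0x288d00, 0x296008, 0x3004a8, 0x30a050, 0x330102, 0x3c1200, 0x4012a4, 0x4040d8, 0x40e420,
  0x410928, 0x412016, 0x420c82, 0x428144, 0x448a10, 0x475000, 0x483840, 0x484302, 0x4c040c,
  0x501510, 0x522208, 0x540062, 0x598080, 0x60900a, 0x610640, 0x642180, 0x6a0030, 0x704804]

/-- the masks of the vertices. -/
noncomputable def hsV (i : ℕ) : ℕ :=
  bif' (Nat.ble 23 i) (getL hex77 0 (Nat.sub i 23)) (bif' (Nat.beq i 0) 0 (Nat.shiftLeft 1 i))

/-- adjacency rows of the Higman–Sims graph. -/
def hsRow (i : ℕ) : ℕ := ent 100 (2 ^ 100 - 1) 0x66faca5704804000000000067801d07b6a003000000000051e0b809c2e421800000000003b1550330c6106400000000006c8b864610e0900a0000000ab8000027383d9808000000061c8000d40a3a5400620000003660003309054d222080000005d1000589454850151000000301701980006e44c040c0000018cc0d4000ac08c843020000028708aa0030914483840000001b01b0280c000dc75000000002d0a6050600511448a10000004c251491252002428144000005442a2c2186020420c82000004a9243094a8002412016000005138483414c080410928000006184984ac1108040e42000000624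92524a210204040d80000036a05606000a414012a40003f00000000000f5dbc120000543800000011ce00ab301020069480000001e3111230a050003e8000000069052e03004a80287080000928029084a9600803089800008d0016580288d00018c600000780022a222800c604a0a800020b034003426084801b11000050184402832580240512480002148c8042824441202d0c00003442203001a2c280062450000128b09004422340403622000062240a41012118900545800001c2485080820516004ca100004a42508810202a22061920000451520844020031c2804c8045800001302c1a4440180d100b400000188c2182124300a2805a000002c43018081a18306060300002800631600944822181128000580184152c0050118810d0000a4048094c10830609052080020540111298202853003880004409009114230602520231000506020411104c60185048600034026001086065046402c080028a08009070824848a04680004302900100bc090805880680c80000128ea002890128819013000010a0d015019828300880600008a10c48a02a8031822021000a0050b0a049204a106104a00040408a1188a106110908a08004208091422330142881040803040108d014a0898202c0c100012100882688a0a420c203400011400826908c10915041050100048060720c0922120a610010020085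028ac120c2401b0808003000494c04c8142a0411006008040462449423023104028800050043038550031c1040800c0c00041906a2300c103201900500003841888e40422092201010020320e01e400c9400060298000026910349405204040a04802002402ea44060e40260100001802125261c00c808a80046200001c842c241109a0580100010081b3004b1405081110408208001458452a806022408222008000a88c91580448844408040020081b26602831402806000404005e08c40c0c054098190000000254a2d28064100214410020000c74fffff80000000000000000001f80007fff80000000000000018780078007ff80000000000014470047007007fc0000000001224c040e00e0703f000000001410b020984904c20f800000011408c244404c2a10c700000010c0621250032418886c00000180283043242911043520000012110a1409241404662900000108980c00e015070b0a2000001801540285150980124a80000110c120a28442026881380000111240c01180a88f40a200000120a242202a20a421235000001240118914081945841c000001121211182404a08c4c180000142006884321812a25048000014084910249882142a84800001094050c80924049290b000001804288148a8609051188000010a218212110342111c500000100000000000000000007ffffe i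

/-- adjacency rows of the `M22` graph. -/
def m22Row (i : ℕ) : ℕ := ent 77 (2 ^ 77 - 1) 0xcdf594a000000000067801d07b00000000028f05c04e14000000000ec5540cc30000000000d9170c8c210000000ab800002738380000030e40006a051d0000000d98000cc24152000000ba2000b128a9000000301701980006e4000000c6606a0005604400000a1c22a800c2450000003603605018001b000002d0a60506005110000026128a48929001000001510a8b086180800000095248612950004000005138483414c0800000030c24c2560884000000189249492884080000006d40ac0c0014820003f00000000000f5d802a1c00000008e7005401a52000000078c4448007d00000000d20a5c0028708000092802908481844c000046800b2c000631800001e0008a888094150000416068006801b110000501844028302892400010a464021400b4300000d10880c0060c48a0000251612008803622000062240a410102a2c00000e12428404013284000129094220400c32400008a2a4108802804c8045800001302c0c068805a000000c4610c028a016800000b10c03060c0c0600005000c648221811280005801842808c408680005202404c18241482000815004450a60071000088120126025202310005060204300c282430001a013001411900b02000a2820029091408d0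000860520090805880680c8000012c4809440c80980000850660a0c0220180002284550063044042001400a9204a106104a0004040d0830884845040021040cc050a20410200c100541130405818200024208a0a420c20340001140460848a8208280800243024884829840040080382418480361010006004c8142a0411006008044a1181188201440002815400c70410200303001446018206403200a00088e40422092201010020f20064a0003014c0000d2501481010281200814880c1c804c0200003061c00c808a8004620006120884d02c0080008052c50142044410208200a5500c044810444010091580448844408040023301418a01403000202310303015026064000005a500c8200428820040 i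

theorem hsV_check : ∀ i < 100, hsV i < 2 ^ 24 ∧ ∀ j < 100, (hsV i = hsV j → i = j) ∧
    (tb (hsRow i) j = true ↔ (pop24 (hsV i) + pop24 (hsV j) = 1 ∨
      (pop24 (hsV i) + pop24 (hsV j) = 7 ∧ pop24 (Nat.land (hsV i) (hsV j)) = 1) ∨
      (pop24 (hsV i) + pop24 (hsV j) = 12 ∧ pop24 (Nat.land (hsV i) (hsV j)) = 0))) := by
  decide +kernel

theorem hsRel_hsV {i j : ℕ} (hi : i < 100) (hj : j < 100) :
    hsRel (om (hsV i)) (om (hsV j)) ↔ tb (hsRow i) j = true := by
  rw [((hsV_check i hi).2 j hj).2, hsRel, card_om, card_om, card_om_inter]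

theorem hsV_inj : ∀ i < 100, ∀ j < 100, om (hsV i) = om (hsV j) → i = j := fun i hi j hj e =>
  ((hsV_check i hi).2 j hj).1 ((om_inj (hsV_check i hi).1 (hsV_check j hj).1).mp e)

theorem mem_hex77 {s : Finset GolayPt} : (Disjoint s (om 0x800001) ∧ s ∪ om 0x800001 ∈ octads) ↔
    ∃ i < 77, om (hsV (i + 23)) = s := by
  constructor
  · rintro ⟨h1, h2⟩
    obtain ⟨m, hm, rfl⟩ := exists_om s
    rw [om_disjoint_iff hm] at h1
    rw [om_union, om_mem_octads_iff (m := Nat.lor m 0x800001) (Nat.or_lt_two_pow hm (by norm_num))] at h2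
    have := allCw (q := fun o => bimp (Nat.beq (pop24 o) 8) (bimp (Nat.beq (Nat.land o 0x800001) 0x800001)
      (anyN 77 fun i => Nat.beq (Nat.lor (hsV (i + 23)) 0x800001) o))) (by decide +kernel) (isOct_iff.mp h2).1
    simp only [bimp_iff, beq_iff, anyN_iff] at this
    obtain ⟨i, hi, e⟩ := this (isOct_iff.mp h2).2 ((Nat.land_comm _ _).trans
      ((om_subset_iff (a := 0x800001) (by norm_num)).mp (by rw [← om_union]; simp)))
    refine ⟨i, hi, ?_⟩
    have h3 := congrArg om e
    rw [← om_union, ← om_union] at h3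
    rw [← Finset.union_sdiff_cancel_right ((om_disjoint_iff hm).mpr h1), ← h3,
      Finset.union_sdiff_cancel_right ((om_disjoint_iff (hsV_check _ (by omega)).1).mpr (by
        clear * - hi; revert i; decide +kernel))]
  · rintro ⟨i, hi, rfl⟩
    rw [om_union, om_disjoint_iff (hsV_check _ (by omega)).1]
    exact ⟨by revert i; decide +kernel, om_mem_octads (by revert i; decide +kernel)⟩

theorem mem_hsV {s : Finset GolayPt} : (∃ i < 100, om (hsV i) = s) ↔
    Disjoint s (om 0x800001) ∧ (s.card ≤ 1 ∨ s ∪ om 0x800001 ∈ octads) := by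
  constructor
  · rintro ⟨i, hi, rfl⟩
    by_cases h : i < 23
    · exact ((by decide +kernel : ∀ i < 23, Disjoint (om (hsV i)) (om 0x800001) ∧
        (om (hsV i)).card ≤ 1) i h).imp_right Or.inl
    · obtain ⟨i, rfl⟩ : ∃ j, i = j + 23 := ⟨i - 23, by omega⟩
      exact (mem_hex77.mpr ⟨i, by omega, rfl⟩).imp_right Or.inr
  · rintro ⟨h1, h2 | h2⟩
    · obtain ⟨p, hp⟩ := Finset.card_le_one_iff_subset_singleton.mp h2
      rcases Finset.subset_singleton_iff.mp hp with rfl | rfl
      · exact ⟨0, by norm_num, gc.ofMask_zero⟩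
      · exact ⟨gc.idx p, (gc.idx_lt p).trans (by decide), by clear * - h1; revert p; decide +kernel⟩
    · obtain ⟨i, hi, e⟩ := mem_hex77.mp ⟨h1, h2⟩
      exact ⟨_, by omega, e⟩

theorem hsRel_map {α β : Type*} [DecidableEq α] [DecidableEq β] (f : α ↪ β) (s t : Finset α) :
    hsRel (s.map f) (t.map f) ↔ hsRel s t := by
  simp only [hsRel, ← Finset.map_inter, Finset.card_map]

section model
variable {α V : Type*} [Fintype α] [DecidableEq α] {B : Set (Finset α)} {G : SimpleGraph V}
  {ν : V → Finset α}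

omit [Fintype α] [DecidableEq α] in
theorem IsModel.exists_map {f : α ↪ GolayPt} {F : Finset GolayPt} {M : Set (Finset GolayPt)}
    (h : IsModel f F Finset.univ M B) {s : Finset GolayPt} : Disjoint s F ↔ ∃ b : Finset α, b.map f = s := by
  constructor
  · refine fun h1 => ⟨s.preimage f f.injective.injOn, Finset.ext fun p => ?_⟩
    simp only [Finset.mem_map, Finset.mem_preimage]
    refine ⟨by rintro ⟨a, ha, rfl⟩; exact ha, fun hp => ?_⟩
    obtain ⟨a, rfl⟩ := (h.range p).mp (by simpa using Finset.disjoint_left.mp h1 hp)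
    exact ⟨a, hp, rfl⟩
  · rintro ⟨b, rfl⟩
    exact Finset.disjoint_left.mpr fun p hp => by
      obtain ⟨a, -, rfl⟩ := Finset.mem_map.mp hp; exact h.notMem a

theorem exists_hs_rows (hα : Fintype.card α = 22) (hB : IsSteinerSystem 3 6 B)
    (hν : Function.Injective ν) (hr : ∀ s, (∃ v, ν v = s) ↔ s.card ≤ 1 ∨ s ∈ B)
    (hG : ∀ u v, G.Adj u v ↔ hsRel (ν u) (ν v)) : ∃ c : Coding V, c.n = 100 ∧ Rows c G hsRow := by
  obtain ⟨f, h⟩ := model22 hα hB
  obtain ⟨c, hc, h1⟩ := exists_coding_of_range ((Finset.map_injective f).comp hν) (by norm_num)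
    (fun i => om (hsV i)) hsV_inj (fun v => mem_hsV.mpr ⟨h.exists_map.mpr ⟨_, rfl⟩,
      ((hr _).mp ⟨v, rfl⟩).imp (by simp) fun h2 => ((h.iff _).mp h2).1⟩) (fun i hi => by
      obtain ⟨h1, h2⟩ := mem_hsV.mp ⟨i, hi, rfl⟩
      obtain ⟨b, e⟩ := h.exists_map.mp h1
      rw [← e] at h2 ⊢
      obtain ⟨v, rfl⟩ := (hr b).mpr (h2.imp (by simp) fun h2 => (h.iff _).mpr ⟨h2, by simp⟩)
      exact ⟨v, rfl⟩) (by norm_num)
  refine ⟨c, hc, fun i hi j hj => ?_⟩
  rw [hc] at hi hj
  rw [hG, ← hsRel_map f, ← hsRel_hsV hi hj, ← h1 i hi, ← h1 j hj]; rfl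

theorem exists_m22_rows (hα : Fintype.card α = 22) (hB : IsSteinerSystem 3 6 B)
    (hν : Function.Injective ν) (hr : ∀ s, (∃ v, ν v = s) ↔ s ∈ B)
    (hG : ∀ u v, G.Adj u v ↔ Disjoint (ν u) (ν v)) : ∃ c : Coding V, c.n = 77 ∧ Rows c G m22Row := by
  obtain ⟨f, h⟩ := model22 hα hB
  obtain ⟨c, hc, h1⟩ := exists_coding_of_range ((Finset.map_injective f).comp hν) (n := 77) (by norm_num)
    (fun i => om (hsV (i + 23))) (fun i hi j hj e => by
      have := hsV_inj _ (by omega) _ (by omega) e; omega)
    (fun v => mem_hex77.mp ⟨h.exists_map.mpr ⟨_, rfl⟩, ((h.iff _).mp ((hr _).mp ⟨v, rfl⟩)).1⟩)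
    (fun i hi => by
      obtain ⟨h1, h2⟩ := mem_hex77.mpr ⟨i, hi, rfl⟩
      obtain ⟨b, e⟩ := h.exists_map.mp h1
      rw [← e] at h2 ⊢
      obtain ⟨v, rfl⟩ := (hr b).mpr ((h.iff _).mpr ⟨h2, by simp⟩)
      exact ⟨v, rfl⟩) (by norm_num)
  refine ⟨c, hc, fun i hi j hj => ?_⟩
  rw [hc] at hi hj
  rw [hG, ← Finset.disjoint_map f, show (ν (c.pt i)).map f = _ from h1 i hi,
    show (ν (c.pt j)).map f = _ from h1 j hj, om_disjoint_iff (hsV_check _ (by omega)).1]
  clear * - hi hj; revert j; revert i; decide +kernel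

theorem pointBlock_rows (hα : Fintype.card α = 22) (hB : IsSteinerSystem 3 6 B) :
    ∃ c : Coding (Option (α ⊕ B)), c.n = 100 ∧ Rows c (pointBlockGraph B) hsRow := by
  have h6 : ∀ b : B, (b : Finset α).card = 6 := fun b => hB.1 b b.2
  refine exists_hs_rows hα hB (ν := fun v => v.elim ∅ (Sum.elim (fun a => {a}) fun b => b)) ?_ ?_ ?_
  · rintro (_ | a | b) (_ | a' | b') e <;> have := congrArg Finset.card e <;> simp [h6] at this e ⊢ <;>
      first | exact e | exact Subtype.ext e
  · refine fun s => ⟨by rintro ⟨_ | a | b, rfl⟩ <;> simp, ?_⟩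
    rintro (h | h)
    · have : Nonempty α := Fintype.card_pos_iff.mp (by omega)
      obtain ⟨p, hp⟩ := Finset.card_le_one_iff_subset_singleton.mp h
      rcases Finset.subset_singleton_iff.mp hp with rfl | rfl
      exacts [⟨none, rfl⟩, ⟨some (.inl p), rfl⟩]
    · exact ⟨some (.inr ⟨s, h⟩), rfl⟩
  · have h1 : ∀ (a : α) (b : Finset α), ({a} ∩ b).card = 1 ↔ a ∈ b := fun a b => by
      by_cases h : a ∈ b <;> simp [h]
    have h2 : ∀ (a : α) (b : Finset α), (b ∩ {a}).card = 1 ↔ a ∈ b := fun a b => by
      rw [Finset.inter_comm, h1]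
    rintro (_ | a | b) (_ | a' | b') <;>
      simp [pointBlockGraph, pointBlockRel, hsRel, h6, h1, h2]
    rw [Finset.disjoint_iff_inter_eq_empty, Finset.disjoint_iff_inter_eq_empty, Finset.inter_comm b'.1,
      or_self, and_iff_right_iff_imp]
    rintro h rfl
    have := h6 b
    rw [Finset.inter_self] at h
    simp [h] at this

theorem block_rows (hα : Fintype.card α = 22) (hB : IsSteinerSystem 3 6 B) :
    ∃ c : Coding B, c.n = 77 ∧ Rows c (blockGraph B) m22Row := by
  refine exists_m22_rows hα hB Subtype.val_injective (by simp) fun b b' => ?_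
  rw [blockGraph, SimpleGraph.fromRel_adj, disjoint_comm (a := b'.1), or_self, and_iff_right_iff_imp]
  rintro h rfl
  have := hB.1 b b.2
  simp [disjoint_self.mp h] at this

end model

section aut
variable {V : Type*} [Fintype V] {c : Coding V} {G : SimpleGraph V}

theorem card_autG_hs (hn : c.n = 100) (h : Rows c G hsRow) : Nat.card (autG G) = 88704000 := by
  have h1 := h.card_le (by rw [hn]; exact fun i _ => ent_lt 100 _ i) [(0, 100), (1, 22), (2, 21), (3, 20), (32, 1), (5, 3), (14, 2), (17, 1), (23, 4), (24, 2), (60,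
    1), (61, 1), (4, 2), (11, 1), (25, 1), (6, 1), (10, 1), (26, 1), (8, 1), (13, 1), (27, 1), (28,
    1), (7, 1), (15, 1), (16, 1), (29, 1), (30, 1), (31, 1), (33, 1), (34, 1), (35, 1), (36, 1), (9,
    1), (12, 1), (18, 1), (37, 1), (38, 1), (39, 1), (40, 1), (41, 1), (42, 1), (19, 1), (20, 1), (43,
    1), (44, 1), (45, 1), (46, 1), (47, 1), (48, 1), (49, 1), (50, 1), (51, 1), (52, 1), (53, 1), (54,
    1), (55, 1), (56, 1), (57, 1), (58, 1), (59, 1), (62, 1), (63, 1), (21, 1), (22, 1), (64, 1), (65,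
    1), (66, 1), (67, 1), (68, 1), (69, 1), (70, 1), (71, 1), (72, 1), (73, 1), (74, 1), (75, 1), (76,
    1), (77, 1), (78, 1), (79, 1), (80, 1), (81, 1), (82, 1), (83, 1), (84, 1), (85, 1), (86, 1), (87,
    1), (88, 1), (89, 1), (90, 1), (91, 1), (92, 1), (93, 1), (94, 1), (95, 1), (96, 1), (97, 1), (98,
    1), (99, 1)]
    (F := 0) le_rfl (by simp [c.ofMask_zero]) (by rw [hn]; decide +kernel)
  have h2 := Coding.chain_le [(0, 100, [[0, 1, 0, 1, 1], [0, 1, 0, 0, 0, 0]]), (23, 77, [[0, 1, 0, 0, 0, 1, 1, 1], [0, 0, 0, 1,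
    1, 0, 0, 0, 1, 0]]), (24, 60, [[1, 1, 0, 1, 1], [1, 1, 0, 0, 0, 1, 0], [0, 0, 1, 1, 1, 0, 1, 1,
    0]]), (25, 32, [[2, 0, 1, 2], [1, 1, 2, 0, 2]]), (7, 6, [])]
    (h.inH hn (gs := [0x47554858271f412617364c603e222b5d5033311e0043101424050e5f042e09325a5449611b073f13200f162921192545400b124d5c355b231d533d342d4a1c4b15590c3951022a3c281a3a115206375e30564246634f380a2c440d57013b084e62032f18,
  0x4b6341423f1c195b1712330d5211504f37360f1301490045434d48445f4a40616246474e4c543e35512d185a3a232a2927591e045e552f0c0503581d1402072b53575d5c562831220b260e1f0832150a253b1610382c1b34213920063c3d1a2e30240960]) (by decide +kernel)) (by rw [hn]; decide +kernel)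
  exact le_antisymm (h1.trans (by decide +kernel)) h2

theorem card_hs [DecidableEq V] (hn : c.n = 100) (h : Rows c G hsRow) :
    Nat.card ↥(autG G ⊓ alternatingGroup V) = 44352000 := by
  have h1 := h.inH hn (gs := [0x4762103c5d1f5f5602400e58385c0a4e2b07254c32540d5045170f4863204b3b303e095a0c42146044191357231e2827054f12432f032d22532a0635341b5104372c01465e361516260b3a114a1c1d3d3931186149594d3f1a554100522933242e5b2108]) (by decide +kernel) _ List.mem_cons_self
  generalize hg : (0x4762103c5d1f5f5602400e58385c0a4e2b07254c32540d5045170f4863204b3b303e095a0c42146044191357231e2827054f12432f032d22532a0635341b5104372c01465e361516260b3a114a1c1d3d3931186149594d3f1a554100522933242e5b2108 : ℕ) = g at h1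
  have h2 : Equiv.Perm.sign (c.dec g) = -1 := by
    rw [Equiv.Perm.sign_of_pow_two_eq_one ((h1.1.pow_eq_one_iff 2).mpr (by
      rw [hn, ← hg]; decide +kernel)), c.card_eq, hn, show Fintype.card (Function.fixedPoints (c.dec g)) = 6 from ?_]
    · decide
    rw [← Set.toFinset_card, ← show countN 100 (fun i => Nat.beq (app g i) i) = 6 by
      rw [← hg]; decide +kernel, countN_eq, ← hn]
    refine Finset.card_bij (fun a _ => c.idx a) (fun a ha => ?_) (fun a _ b _ => c.idx_inj.mp) fun i hi => ?_
    · rw [Set.mem_toFinset] at ha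
      exact Finset.mem_filter.mpr ⟨Finset.mem_range.mpr (c.idx_lt a), beq_iff.mpr (by
        rw [← h1.1.idx_dec, show c.dec g a = a from ha])⟩
    · rw [Finset.mem_filter, Finset.mem_range, beq_iff] at hi
      exact ⟨c.pt i, Set.mem_toFinset.mpr ((h1.1.dec_pt hi.1).trans (by rw [hi.2])), c.idx_pt i hi.1⟩
  have h3 := card_eq_range_mul_ker (Equiv.Perm.sign.comp (autG G).subtype)
  rw [card_autG_hs hn h, card_ker_eq _ (K := autG G ⊓ alternatingGroup V) inf_le_left (by simp),
    MonoidHom.range_eq_top.mpr fun u => ?_, Subgroup.card_top, Nat.card_eq_fintype_card,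
    Fintype.card_units_int] at h3
  · omega
  · rcases Int.units_eq_one_or u with rfl | rfl
    exacts [⟨1, map_one _⟩, ⟨⟨_, h1.2⟩, h2⟩]

theorem simple_hs [DecidableEq V] (hn : c.n = 100) (h : Rows c G hsRow) :
    IsSimpleGroup ↥(autG G ⊓ alternatingGroup V) := by
  have hl : ∀ v, c.idx v < 100 := fun v => hn ▸ c.idx_lt v
  have hi : Function.Injective fun v => om (hsV (c.idx v)) := fun u v e =>
    c.idx_injective (hsV_inj _ (hl u) _ (hl v) e)
  have hF : ∀ g ∈ M22, g • om 0x800001 = om 0x800001 := fun g hg => smul_eq_of_fix fun p hp => by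
    rcases (by simp [F2_eq, F1_eq] : ∀ p, p ∈ om 0x800001 ↔ p = some 0 ∨ p = none) p |>.mp hp with rfl | rfl
    exacts [hg.2, hg.1.2]
  have h1 : ∀ (g : M22) v, ∃ w, om (hsV (c.idx w)) = (g : Equiv.Perm GolayPt) • om (hsV (c.idx v)) :=
    fun g v => by
      obtain ⟨a1, a2⟩ := mem_hsV.mp ⟨_, hl v, rfl⟩
      obtain ⟨i, hi, e⟩ := mem_hsV.mpr (show Disjoint (g.1 • om (hsV (c.idx v))) _ ∧ _ by
        rw [← hF g g.2, disjoint_smul', smul_union', Finset.card_smul_finset,
          smul_mem_octads_iff (M22_le g.2)]; exact ⟨a1, a2⟩)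
      exact ⟨c.pt i, by rw [c.idx_pt i (hn ▸ hi), e]⟩
  choose act hact using h1
  let _ : MulAction M22 V :=
    { smul := act
      one_smul := fun v => hi ((hact 1 v).trans (one_smul _ _))
      mul_smul := fun g k v => hi ((hact _ v).trans ((mul_smul _ _ _).trans
        ((congrArg _ (hact k v).symm).trans (hact g _).symm))) }
  let φ := MulAction.toPermHom M22 V
  have hφ : ∀ g v, om (hsV (c.idx (φ g v))) = (g : Equiv.Perm GolayPt) • om (hsV (c.idx v)) := hact
  have := simple_M22
  have h2 : Function.Injective φ := (injective_iff_map_eq_one φ).mpr fun g e => Subtype.ext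
    (eq_one_of_fix_base (M22_le g.2) fun i hi => by
      by_cases h0 : i = 0
      · rw [h0]; exact g.2.2
      have := hφ g (c.pt i)
      rw [e, Equiv.Perm.one_apply, c.idx_pt i (by omega), show om (hsV i) = {gc.pt i} by
        clear * - hi h0; revert i; decide +kernel, Finset.smul_finset_singleton] at this
      exact (Finset.singleton_injective this).symm)
  have hgH : ∀ gs : List ℕ, (∀ g ∈ gs, c.InH (autG G) g) →
      allL gs (fun g => Nat.beq (powN 100 g 11) (idN 100)) = true →
      ∀ g ∈ gs, c.InH (autG G ⊓ alternatingGroup V) g := fun gs h1 h2 g hg => (h1 g hg).inf (by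
    have := congrArg Equiv.Perm.sign (((h1 g hg).1.pow_eq_one_iff 11).mpr (by
      rw [hn]; exact beq_iff.mp (allL_iff.mp h2 g hg)))
    rw [map_pow, map_one] at this
    exact (Int.units_eq_one_or _).resolve_right fun e => by rw [e] at this; exact absurd this (by decide))
  have hH := hgH _ (h.inH hn (gs := [0xc151851200b323d5d5a3e3904102b5c292659350709221a531c50231b14541252131e21175e313b0e61480a0346624d4c2e27050136570d2c5b58435f4924474f1d332f384441603f1f630056424e194037453c3a25082a2d162806300f4b4a02341155,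
  0x5f41592b14022d49521d401e51110758604a0419181a620d2e440a1f2c0b4f10555020483f384d425b5e06094b230e543c0337344c21221316333d2a15351c53013e634317080c5c050f1b2f363b3a265a4728240031254e29455727466156325d303912]) (by decide +kernel)) (by decide +kernel)
  have hM := inH_inf_pt (hgH _ (h.inH hn (gs := [0x4b2b25522051172d291a46386237303d4f5d414022235a19185f391b3c503f4a2e5c4736284927352a5b453e60541c433a2c564c5e3255441e1d315321421f3b59584e482f63576134264d243305030a0f0413160e150c11140810120d0b060901070200,
  0x4a512134264061434c3d2522181d2a3a32535c1b58414544632037301c5939193e1e50572c4b6246494d3f605f484e4742291a522d175d2b4f385b24332e55313554235a27281f3c2f56363b5e0d0e1505080a010903110610140c040b07160f02131200]) (by decide +kernel))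
    (by decide +kernel)) 0 (by omega) (by decide +kernel)
  have h0 : ∀ v, G.Adj (c.pt 0) v ↔ v ∈ c.ofMask (hsRow 0) := fun v => (h.mem (by omega) v).symm
  have hx : ∀ v, v ≠ c.pt 0 ∧ ¬ G.Adj (c.pt 0) v ↔ v ∈ c.ofMask (2 ^ 100 - 2 ^ 23) := fun v => by
    rw [h0, c.mem_ofMask, c.mem_ofMask, Ne, ← c.idx_inj, c.idx_pt 0 (by omega)]
    have := hl v
    generalize c.idx v = i at this
    revert i; decide +kernel
  have hR : Leech.RankData (autG G ⊓ alternatingGroup V) Set.univ (c.pt 0)
      (fun v => if v ∈ c.ofMask (hsRow 0) then 0 else 1) {0, 1} (fun d => if d = 0 then 22 else 77) :=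
    { mem := trivial
      inv := fun _ _ _ _ => trivial
      tr := fun y _ => pts_class hH 0 (by omega) (2 ^ c.n - 1) (by rw [hn]; decide +kernel)
        (by simp [c.ofMask_full]) (by simp [c.ofMask_full])
      cls := fun y _ _ => by split_ifs <;> simp
      cinv := fun g hg e y _ => by
        have := hg.1 (c.pt 0) y
        rw [show g (c.pt 0) = c.pt 0 from e, h0, h0] at this
        exact if_congr this rfl rfl
      card := by
        simp only [Finset.mem_insert, Finset.mem_singleton, forall_eq_or_imp, forall_eq, Set.mem_univ,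
          true_and, ite_eq_left_iff, ite_eq_right_iff, one_ne_zero, zero_ne_one, imp_false, not_not,
          if_true, if_false, ← h0, hx]
        rw [show {y | y ≠ c.pt 0 ∧ G.Adj (c.pt 0) y} = c.ofMask (hsRow 0) from Set.ext fun y =>
          (and_iff_right_of_imp fun h => h.ne').trans (h0 y), Set.ncard_coe_finset,
          show {y | y ∈ c.ofMask (2 ^ 100 - 2 ^ 23)} = c.ofMask (2 ^ 100 - 2 ^ 23) from rfl,
          Set.ncard_coe_finset, c.card_ofMask, c.card_ofMask, hn]
        decide +kernel
      sub := fun y _ z _ hy hz e => by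
        suffices ∃ g ∈ (autG G ⊓ alternatingGroup V) ⊓ stabilizer _ (c.pt 0), g y = z by
          obtain ⟨g, hg, e⟩ := this; exact ⟨g, hg.1, hg.2, e⟩
        by_cases h3 : y ∈ c.ofMask (hsRow 0)
        · exact pts_class hM 1 (by omega) (hsRow 0) (by rw [hn]; decide +kernel) h3 (by simpa [h3] using e)
        · exact pts_class hM 23 (by omega) (2 ^ 100 - 2 ^ 23) (by rw [hn]; decide +kernel)
            ((hx y).mp ⟨hy, (h0 y).not.mpr h3⟩) ((hx z).mp ⟨hz, (h0 z).not.mpr (by simpa [h3] using e)⟩) }
  have h3 : (Set.univ : Set V).ncard = 100 := by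
    rw [Set.ncard_univ, Nat.card_eq_fintype_card, c.card_eq, hn]
  have h4 : Nat.card ↥((autG G ⊓ alternatingGroup V) ⊓ stabilizer _ (c.pt 0)) = 443520 := by
    have := hR.card_eq; rw [card_hs hn h, h3] at this; omega
  have h5 : φ.range = (autG G ⊓ alternatingGroup V) ⊓ stabilizer _ (c.pt 0) := by
    refine Subgroup.eq_of_le_of_card_ge ?_ (by
      rw [h4, ← Nat.card_congr (MonoidHom.ofInjective h2).toEquiv, card_M22])
    rintro _ ⟨g, rfl⟩
    refine ⟨⟨fun u v => ?_, ?_⟩, hi ?_⟩
    · rw [h.adj, h.adj, ← hsRel_hsV (hl _) (hl _), ← hsRel_hsV (hl _) (hl _), hφ, hφ]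
      simp only [hsRel, card_smul_inter, Finset.card_smul_finset]
    · rcases (Equiv.Perm.sign.comp φ).normal_ker.eq_bot_or_eq_top with e | e
      · have := Nat.card_le_card_of_injective _ ((MonoidHom.ker_eq_bot_iff _).mp e)
        rw [card_M22, Nat.card_eq_fintype_card, Fintype.card_units_int] at this
        omega
      · exact e.ge (Subgroup.mem_top g)
    · show om (hsV (c.idx (φ g _))) = om (hsV _)
      rw [hφ, c.idx_pt 0 (by omega), show om (hsV 0) = ∅ from gc.ofMask_zero, Finset.smul_finset_empty]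
  refine hR.isSimpleGroup (h5 ▸ (MonoidHom.ofInjective h2).symm.isSimpleGroup) (by decide)
    (by rw [h3]; decide) (hR.not_regular (p := 11) (q := 2) (by norm_num) (by norm_num) ?_ ?_ (by decide) ?_ ?_)
  · rw [h4]; norm_num
  · rw [h4]; norm_num
  · rw [h3]; norm_num
  · rw [h3, show (100 : ℕ).factorization 2 = 2 by
      rw [Nat.factorization_def _ Nat.prime_two]; decide +kernel]
    decide

end aut

end Cfsg.Lib.Golay
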