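import Cfsg.Agent.Lib.Golay.Model
import Mathlib.GroupTheory.Perm.Cycle.Type

/-! Jordan's theorem on sharply multiply transitive groups. -/

set_option autoImplicit false
set_option maxHeartbeats 400000

namespace Cfsg.Lib.Golay

open MulAction
open scoped Pointwise

variable {α : Type*} [Fintype α] [DecidableEq α] {G : Subgroup (Equiv.Perm α)} {Ω : Finset α} {k : ℕ}

/-- `G` fixes the points outside `Ω` and is sharply `k`-transitive on `Ω`. -/
structure Sharp (k : ℕ) (G : Subgroup (Equiv.Perm α)) (Ω : Finset α) : Prop where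
  out : ∀ g ∈ G, ∀ a ∉ Ω, g a = a
  tr : ∀ x y : Fin k ↪ α, (∀ i, x i ∈ Ω) → (∀ i, y i ∈ Ω) → ∃ g ∈ G, ∀ i, g (x i) = y i
  sh : ∀ g ∈ G, ∀ x : Fin k ↪ α, (∀ i, x i ∈ Ω) → (∀ i, g (x i) = x i) → g = 1

omit [DecidableEq α] in
theorem sharp_univ [IsMultiplyPretransitive G α k] (h : ∀ x : Fin k ↪ α, stabilizer G x = ⊥) :
    Sharp k G Finset.univ where
  out _ _ _ h := absurd (Finset.mem_univ _) h
  tr x y _ _ := by
    obtain ⟨g, e⟩ := exists_smul_eq G x y
    exact ⟨g, g.2, fun i => congrArg (fun z : Fin k ↪ α => z i) e⟩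
  sh g hg x _ e := congrArg Subtype.val ((Subgroup.eq_bot_iff_forall _).mp (h x) ⟨g, hg⟩
    (Function.Embedding.ext e))

section basic
omit [Fintype α]

omit [DecidableEq α] in
theorem Sharp.inv (h : Sharp k G Ω) {g : Equiv.Perm α} (hg : g ∈ G) {a : α} (ha : a ∈ Ω) : g a ∈ Ω := by
  by_contra h1; exact h1 ((g.injective (h.out g hg _ h1)).symm ▸ ha)

theorem Sharp.stab (h : Sharp (k + 1) G Ω) {e : α} (he : e ∈ Ω) :
    Sharp k (G ⊓ stabilizer _ e) (Ω.erase e) := by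
  have key : ∀ x : Fin k ↪ α, (∀ i, x i ∈ Ω.erase e) → ∃ y : Fin (k + 1) ↪ α,
      y 0 = e ∧ (∀ i, y i.succ = x i) ∧ ∀ i, y i ∈ Ω := fun x hx =>
    ⟨Fin.Embedding.cons x (a := e) (by rintro ⟨i, e⟩; exact Finset.ne_of_mem_erase (hx i) e), rfl,
      fun _ => rfl, fun i => Fin.cases he (fun i => Finset.mem_of_mem_erase (hx i)) i⟩
  refine ⟨fun g hg a ha => ?_, fun x y hx hy => ?_, fun g hg x hx h1 => ?_⟩
  · by_cases e' : a = e
    exacts [e' ▸ hg.2, h.out g hg.1 a fun h' => ha (Finset.mem_erase.mpr ⟨e', h'⟩)]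
  · obtain ⟨x', a1, a2, a3⟩ := key x hx
    obtain ⟨y', b1, b2, b3⟩ := key y hy
    obtain ⟨g, hg, h3⟩ := h.tr x' y' a3 b3
    exact ⟨g, ⟨hg, by have := h3 0; rwa [a1, b1] at this⟩, fun i => by rw [← a2, ← b2, h3]⟩
  · obtain ⟨x', a1, a2, a3⟩ := key x hx
    exact h.sh g hg.1 x' a3 fun i => Fin.cases (by rw [a1]; exact hg.2) (fun i => by rw [a2]; exact h1 i) i

omit [DecidableEq α] in
theorem Sharp.eq_of (h : Sharp k G Ω) {g g' : Equiv.Perm α} (hg : g ∈ G) (hg' : g' ∈ G) {S : Finset α}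
    (hS : S ⊆ Ω) (hk : k ≤ S.card) (e : ∀ p ∈ S, g p = g' p) : g = g' := by
  obtain ⟨x, hx⟩ := Function.Embedding.exists_of_card_le_finset (α := Fin k) (s := S) (by simpa)
  have hx : ∀ i, x i ∈ S := fun i => hx ⟨i, rfl⟩
  exact (inv_mul_eq_one.mp (h.sh _ (mul_mem (inv_mem hg') hg) x (fun i => hS (hx i)) fun i =>
    Equiv.Perm.inv_eq_iff_eq.mpr (e _ (hx i)))).symm

theorem Sharp.exists_of (h : Sharp k G Ω) (hk : k ≤ Ω.card) {S : Finset α} (hS : S ⊆ Ω) (hc : S.card ≤ k)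
    (π : Equiv.Perm α) (hπ : ∀ p ∈ S, π p ∈ Ω) : ∃ g ∈ G, ∀ p ∈ S, g p = π p := by
  obtain ⟨g, hg, e⟩ := trans_on_list hk h.tr S.nodup_toList (S.nodup_toList.map π.injective) (by simp)
    (by simpa) (fun a ha => hS (by simpa using ha)) (by simpa using hπ)
  exact ⟨g, hg, by simpa using e⟩

theorem Sharp.tr4 (h : Sharp 4 G Ω) {a b c d a' b' c' d' : α} (h1 : [a, b, c, d].Nodup)
    (h2 : [a', b', c', d'].Nodup) (h3 : ∀ p ∈ [a, b, c, d], p ∈ Ω) (h4 : ∀ p ∈ [a', b', c', d'], p ∈ Ω) :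
    ∃ g ∈ G, g a = a' ∧ g b = b' ∧ g c = c' ∧ g d = d' := by
  simpa using trans_on_list (by
    exact (List.toFinset_card_of_nodup h1).ge.trans (Finset.card_le_card
      fun p hp => h3 p (List.mem_toFinset.mp hp))) h.tr h1 h2 rfl le_rfl h3 h4

theorem Sharp.eq4 (h : Sharp 4 G Ω) {g g' : Equiv.Perm α} (hg : g ∈ G) (hg' : g' ∈ G) {a b c d : α}
    (h1 : [a, b, c, d].Nodup) (h3 : ∀ p ∈ [a, b, c, d], p ∈ Ω) (ea : g a = g' a) (eb : g b = g' b)
    (ec : g c = g' c) (ed : g d = g' d) : g = g' :=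
  h.eq_of hg hg' (S := [a, b, c, d].toFinset) (fun p hp => h3 p (List.mem_toFinset.mp hp))
    (List.toFinset_card_of_nodup h1).ge (by simp [*])

end basic

omit [DecidableEq α] in
theorem Sharp.card (h : Sharp k G Ω) (hk : k ≤ Ω.card) : Nat.card G = Ω.card.descFactorial k := by
  obtain ⟨x, hx⟩ := Function.Embedding.exists_of_card_le_finset (α := Fin k) (s := Ω) (by simpa)
  have hx : ∀ i, x i ∈ Ω := fun i => hx ⟨i, rfl⟩
  rw [card_eq_orbit_mul G x, ← ncard_emb_mem, show G ⊓ stabilizer _ x = ⊥ from eq_bot_iff.mpr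
    fun g hg => h.sh g hg.1 x hx fun i => congrArg (fun z : Fin k ↪ α => z i) hg.2, Subgroup.card_bot,
    mul_one]
  congr 1; ext y
  refine ⟨by rintro ⟨⟨g, hg⟩, rfl⟩ i; exact h.inv hg (hx i), fun hy => ?_⟩
  obtain ⟨g, hg, e⟩ := h.tr x y hx hy
  exact ⟨⟨g, hg⟩, Function.Embedding.ext e⟩

/-- the number of fixed points of an element of prime order. -/
theorem Sharp.fix (h : Sharp k G Ω) {g : Equiv.Perm α} (hg : g ∈ G) (h1 : g ≠ 1) {p : ℕ} (hp : p.Prime)
    (h2 : g ^ p = 1) : (Ω.filter fun a => g a = a).card < k ∧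
      ∃ m, (Ω.filter fun a => g a = a).card + p * m = Ω.card := by
  have := Fact.mk hp
  refine ⟨lt_of_not_ge fun hk => h1 (h.eq_of hg (one_mem G) (Finset.filter_subset _ _) hk
    fun p hp => (Finset.mem_filter.mp hp).2), ?_⟩
  have h3 := Equiv.Perm.card_compl_support_modEq (σ := g) (p := p) (n := 1) (by simpa)
  obtain ⟨m, hm⟩ := (Nat.modEq_iff_dvd' (Finset.card_le_univ _)).mp h3
  rw [Finset.card_compl, Nat.sub_sub_self (Finset.card_le_univ _)] at hm
  refine ⟨m, ?_⟩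
  rw [← hm, ← Finset.card_filter_add_card_filter_not (s := Ω) fun a => g a = a]
  congr 2; ext a
  simp only [Equiv.Perm.mem_support, Finset.mem_filter, iff_and_self]
  exact fun h' => by_contra fun h'' => h' (h.out g hg a h'')

/-- `G` induces the full symmetric group on `B`. -/
def Full (G : Subgroup (Equiv.Perm α)) (B : Finset α) : Prop :=
  ∀ π : Equiv.Perm α, (∀ p ∈ B, π p ∈ B) → ∃ g ∈ G, ∀ p ∈ B, g p = π p

theorem Sharp.full (h : Sharp (k + 1) G Ω) (hk : 3 ≤ k) (hΩ : Ω.card = k + 8) {B : Finset α} (hB : B ⊆ Ω)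
    (hc : B.card = k + 1) {e : α} (he : e ∈ Ω) (heB : e ∉ B) (hF : Full (G ⊓ stabilizer _ e) B) :
    Full G (insert e B) := by
  obtain ⟨a, ha, b, hb, c, hc', l, hl, hab, hac, hal, hbc, hbl, hcl⟩ := Finset.three_lt_card.mp
    (show 3 < B.card by omega)
  have hne : ∀ p ∈ B, p ≠ e := fun p hp e' => heB (e' ▸ hp)
  obtain ⟨g, hg, h1⟩ := hF (Equiv.swap a b * Equiv.swap b c) fun p hp => by
    simp only [Equiv.Perm.mul_apply, Equiv.swap_apply_def]; split_ifs <;> assumption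
  have hge : g e = e := hg.2
  have ga : g a = b := by simp [h1 a ha, Equiv.swap_apply_def, hab, hac]
  have gb : g b = c := by simp [h1 b hb, Equiv.swap_apply_def, Ne.symm hac, Ne.symm hbc]
  have gc : g c = a := by simp [h1 c hc']
  have gp : ∀ p ∈ B, p ≠ a → p ≠ b → p ≠ c → g p = p := fun p hp e1 e2 e3 => by
    simp [h1 p hp, Equiv.swap_apply_def, e1, e2, e3]
  clear h1
  have h2 := h.fix hg.1 (fun e => hab (by rw [← ga, e]; rfl)) Nat.prime_three
    (h.eq_of (pow_mem hg.1 3) (one_mem G) hB hc.ge fun p hp => by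
      simp only [pow_three, Equiv.Perm.mul_apply, Equiv.Perm.one_apply]
      by_cases e1 : p = a; · simp [*]
      by_cases e2 : p = b; · simp [*]
      by_cases e3 : p = c; · simp [*]
      simp [gp p hp e1 e2 e3])
  have h3 : insert e (B \ {a, b, c}) = Ω.filter fun a => g a = a := by
    refine Finset.eq_of_subset_of_card_le (fun p hp => ?_) ?_
    · simp only [Finset.mem_insert, Finset.mem_sdiff, Finset.mem_singleton, not_or] at hp
      rcases hp with rfl | ⟨hp, e1, e2, e3⟩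
      exacts [Finset.mem_filter.mpr ⟨he, hge⟩, Finset.mem_filter.mpr ⟨hB hp, gp p hp e1 e2 e3⟩]
    · rw [Finset.card_insert_of_notMem (by simp [heB]), Finset.card_sdiff_of_subset (by
        simp [Finset.insert_subset_iff, *]), Finset.card_eq_three.mpr ⟨a, b, c, hab, hac, hbc, rfl⟩]
      omega
  obtain ⟨s, hs, h4⟩ := h.exists_of (by omega) hB hc.le (Equiv.swap l e) fun p hp => by
    rw [Equiv.swap_apply_def]; split_ifs; exacts [he, hB hl, hB hp]
  have sl : s l = e := by simp [h4 l hl]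
  have sp : ∀ p ∈ B, p ≠ l → s p = p := fun p hp e1 => by
    rw [h4 p hp, Equiv.swap_apply_of_ne_of_ne e1 (hne p hp)]
  have h5 : g * s = s * g := h.eq_of (mul_mem hg.1 hs) (mul_mem hs hg.1) hB hc.ge fun p hp => by
    simp only [Equiv.Perm.mul_apply]
    by_cases e1 : p = a; · rw [e1, ga, sp a ha hal, sp b hb hbl, ga]
    by_cases e2 : p = b; · rw [e2, gb, sp b hb hbl, sp c hc' hcl, gb]
    by_cases e3 : p = c; · rw [e3, gc, sp a ha hal, sp c hc' hcl, gc]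
    by_cases e4 : p = l
    · rw [e4, gp l hl hal.symm hbl.symm hcl.symm, sl, hge]
    · rw [gp p hp e1 e2 e3, sp p hp e4, gp p hp e1 e2 e3]
  have se : s e = l := by
    have : s e ∈ insert e (B \ {a, b, c}) := h3 ▸ Finset.mem_filter.mpr ⟨h.inv hs he, by
      rw [← Equiv.Perm.mul_apply, h5, Equiv.Perm.mul_apply, hge]⟩
    rcases Finset.mem_insert.mp this with e1 | e1
    · exact absurd (s.injective (sl.trans e1.symm)) (hne l hl)
    · by_contra e2
      have e1 := (Finset.mem_sdiff.mp e1).1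
      exact heB (s.injective (sp _ e1 e2) ▸ e1)
  have h6 : ∀ π : Equiv.Perm α, (∀ p ∈ insert e B, π p ∈ insert e B) → π e = e →
      ∃ g ∈ G, ∀ p ∈ insert e B, g p = π p := fun π h1 h2 => by
    obtain ⟨g, hg, h3⟩ := hF π fun p hp => (Finset.mem_insert.mp (h1 p (Finset.mem_insert_of_mem hp))).resolve_left
      fun e' => hne p hp (π.injective (e'.trans h2.symm))
    exact ⟨g, hg.1, by simpa [h2] using ⟨hg.2, h3⟩⟩
  intro π hπ
  by_cases h7 : π e = e
  · exact h6 π hπ h7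
  have h8 := (Finset.mem_insert.mp (hπ e (Finset.mem_insert_self _ _))).resolve_left h7
  have sw : ∀ a ∈ insert e B, ∀ b ∈ insert e B, ∀ p ∈ insert e B, Equiv.swap a b p ∈ insert e B :=
    fun a ha b hb p hp => by rw [Equiv.swap_apply_def]; split_ifs <;> assumption
  have m1 := Finset.mem_insert_of_mem (b := e) hl
  have m2 := Finset.mem_insert_self e B
  obtain ⟨g1, a1, a2⟩ := h6 (Equiv.swap l (π e)) (sw _ m1 _ (hπ e m2))
    (Equiv.swap_apply_of_ne_of_ne (hne l hl).symm (Ne.symm h7))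
  obtain ⟨g2, b1, b2⟩ := h6 (Equiv.swap l e * Equiv.swap l (π e) * π)
    (fun p hp => sw _ m1 _ m2 _ (sw _ m1 _ (hπ e m2) _ (hπ p hp))) (by simp)
  refine ⟨g1 * s * g2, mul_mem (mul_mem a1 hs) b1, fun p hp => ?_⟩
  have c1 := sw _ m1 _ (hπ e m2) _ (hπ p hp)
  have c2 : ∀ p ∈ insert e B, s p = Equiv.swap l e p := by simpa [se] using h4
  simp only [Equiv.Perm.mul_apply, b2 p hp, c2 _ (sw _ m1 _ m2 _ c1), Equiv.swap_apply_self, a2 _ c1]

theorem Sharp.steiner (h : Sharp k G Finset.univ) {B : Finset α} (hc : B.card = k + 1) (hF : Full G B) :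
    IsSteinerSystem k (k + 1) (orbit G B) ∧ G ≤ setSystemAut (orbit G B) := by
  refine ⟨⟨by rintro _ ⟨g, rfl⟩; exact (Finset.card_smul_finset (g : Equiv.Perm α) B).trans hc,
    fun s hs => ?_⟩, fun g hg => mem_setSystemAut_iff.mpr fun b hb => mapsTo_smul_orbit (⟨g, hg⟩ : G) _ hb⟩
  obtain ⟨t, ht, h1⟩ := Finset.exists_subset_card_eq (show k ≤ B.card by omega)
  obtain ⟨π, hπ⟩ := Equiv.Perm.exists_map_finset_eq _ _ (h1.trans hs.symm)
  obtain ⟨g, hg, h2⟩ := h.exists_of (h1 ▸ Finset.card_le_univ _) (Finset.subset_univ t) h1.le π (by simp)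
  have h3 : g • t = s := by rw [← hπ, Finset.map_eq_image]; exact Finset.image_congr h2
  refine ⟨g • B, ⟨⟨⟨g, hg⟩, rfl⟩, h3 ▸ (smul_subset_smul' _ _ _).mpr ht⟩, ?_⟩
  rintro _ ⟨⟨⟨g', hg'⟩, rfl⟩, h4⟩
  have h5 : (g'⁻¹ * g) • t ⊆ B := by rw [mul_smul, h3]; exact Finset.smul_finset_subset_iff.mpr (by simpa)
  obtain ⟨ρ, a1⟩ := Equiv.Perm.exists_extending_pair (α := t) (f := fun p => (⟨p, ht p.2⟩ : B))
    (g := fun p => ⟨(g'⁻¹ * g) p, h5 (Finset.smul_mem_smul_finset p.2)⟩)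
    (fun _ _ e => Subtype.ext (Subtype.mk.inj e))
    (fun _ _ e => Subtype.ext ((g'⁻¹ * g).injective (Subtype.mk.inj e)))
  have a2 : ∀ p ∈ B, Equiv.Perm.ofSubtype ρ p ∈ B := fun p hp => by
    rw [Equiv.Perm.ofSubtype_apply_of_mem ρ hp]; exact Subtype.prop _
  obtain ⟨τ, hτ, a3⟩ := hF _ a2
  have a4 : τ = g'⁻¹ * g := h.eq_of hτ (mul_mem (inv_mem hg') hg) (Finset.subset_univ t) h1.ge fun p hp => by
    rw [a3 p (ht hp), Equiv.Perm.ofSubtype_apply_of_mem ρ (ht hp), a1 ⟨p, hp⟩]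
  have a5 : τ • B = B := Finset.eq_of_subset_of_card_le (fun p hp => by
    obtain ⟨q, hq, rfl⟩ := Finset.mem_smul_finset.mp hp
    exact ((a3 q hq).symm ▸ a2 q hq : τ q ∈ B)) (Finset.card_smul_finset _ _).ge
  show g' • B = g • B
  rw [← a5, smul_smul, a4, mul_inv_cancel_left, ← a4, a5]

section core
variable (h : Sharp 4 G Ω)
include h

omit [Fintype α] in
theorem Sharp.fix_comm {a b : Equiv.Perm α} (ha : a ∈ G) (hb : b ∈ G) (h1 : a ≠ 1) (hc : a * b = b * a)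
    {u v : α} (hu : u ∈ Ω) (hv : v ∈ Ω) (huv : u ≠ v) (au : a u = u) (av : a v = v) (bu : b u = v)
    (bv : b v = u) : (Ω.filter fun q => a q = q ∧ b q ≠ q) = {u, v} := by
  ext q
  simp only [Finset.mem_filter, Finset.mem_insert, Finset.mem_singleton]
  refine ⟨fun ⟨hq, e1, e2⟩ => by_contra fun e3 => h1 ?_, by rintro (rfl | rfl) <;> simp [*, huv.symm]⟩
  have e4 : b q ≠ u := fun e => e3 (.inr (b.injective (e.trans bv.symm)))
  have e5 : b q ≠ v := fun e => e3 (.inl (b.injective (e.trans bu.symm)))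
  rw [not_or] at e3
  exact h.eq4 ha (one_mem G) (a := u) (b := v) (c := q) (d := b q)
    (by simp [huv, Ne.symm e3.1, Ne.symm e3.2, e4.symm, e5.symm, e2.symm]) (by simp [*, h.inv hb hq]) au av e1
    (by rw [← Equiv.Perm.mul_apply, hc, Equiv.Perm.mul_apply, e1]; rfl)

theorem Sharp.two_fix (hn : 6 ≤ Ω.card) {z : Equiv.Perm α} (hz : z ∈ G) {a b c d : α} (h1 : [a, b, c, d].Nodup)
    (h2 : ∀ p ∈ [a, b, c, d], p ∈ Ω) (za : z a = b) (zb : z b = a) (zc : z c = d) (zd : z d = c) :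
    ∃ u ∈ Ω, ∃ v ∈ Ω, u ≠ v ∧ z u = u ∧ z v = v := by
  have ⟨⟨hab, hac, had⟩, ⟨hbc, hbd⟩, hcd⟩ : (a ≠ b ∧ a ≠ c ∧ a ≠ d) ∧ (b ≠ c ∧ b ≠ d) ∧ c ≠ d := by
    simpa using h1
  have ⟨ha, hb, hc, hd⟩ : a ∈ Ω ∧ b ∈ Ω ∧ c ∈ Ω ∧ d ∈ Ω := by simpa using h2
  obtain ⟨x, hx, xa, xb, xc, xd⟩ := h.tr4 (a' := b) (b' := a) (c' := c) (d' := d) h1
    (by simp [*, hab.symm]) h2 (by simp [*])
  have x2 : x ^ 2 = 1 := h.eq4 (pow_mem hx 2) (one_mem G) h1 h2 (by simp [sq, *]) (by simp [sq, *])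
    (by simp [sq, *]) (by simp [sq, *])
  have x3 : ∀ p, x (x p) = p := fun p => by rw [← Equiv.Perm.mul_apply, ← sq, x2]; rfl
  obtain ⟨r, hr, h3⟩ := Finset.exists_mem_notMem_of_card_lt_card (t := Ω)
    (s := insert a (insert b (Ω.filter fun a => x a = a))) (by
      have := (h.fix hx (fun e => hab (by rw [← xa, e]; rfl)) Nat.prime_two x2).1
      exact ((Finset.card_insert_le _ _).trans (Nat.succ_le_succ (Finset.card_insert_le _ _))).trans_lt
        (by omega))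
  simp only [Finset.mem_insert, Finset.mem_filter, hr, true_and, not_or] at h3
  obtain ⟨g, hg, ga, gb, gc, gd⟩ := h.tr4 (a := a) (b := b) (c := r) (d := x r) (by
    have e1 : a ≠ x r := fun e => h3.2.1 (by rw [← xa, e, x3])
    have e2 : b ≠ x r := fun e => h3.1 (by rw [← xb, e, x3])
    simp [*, Ne.symm h3.1, Ne.symm h3.2.1, Ne.symm h3.2.2]) h1 (by simp [*, h.inv hx hr]) h2
  have e : ∀ p, (g * x * g⁻¹) (g p) = g (x p) := by simp
  have : z = g * x * g⁻¹ := h.eq4 hz (mul_mem (mul_mem hg hx) (inv_mem hg)) h1 h2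
    (by rw [za, ← gb, ← xa, ← e, ga]) (by rw [zb, ← ga, ← xb, ← e, gb]) (by rw [zc, ← gd, ← e, gc])
    (by rw [zd, ← gc, ← x3 r, ← e, gd])
  exact ⟨g c, h.inv hg hc, g d, h.inv hg hd, g.injective.ne hcd, by rw [this, e, xc], by rw [this, e, xd]⟩

theorem Sharp.ne_seven : Ω.card ≠ 7 := fun hn => by
  have key : ∀ a b c d : α, [a, b, c, d].Nodup → (∀ p ∈ [a, b, c, d], p ∈ Ω) → ∃ z ∈ G, z a = b ∧ z b = a ∧
      z c = d ∧ ∀ p ∈ Ω, p ∉ [a, b, c, d] → z p = p := fun a b c d h1 h2 => by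
    have ⟨⟨hab, hac, had⟩, ⟨hbc, hbd⟩, hcd⟩ : (a ≠ b ∧ a ≠ c ∧ a ≠ d) ∧ (b ≠ c ∧ b ≠ d) ∧ c ≠ d := by
      simpa using h1
    obtain ⟨z, hz, za, zb, zc, zd⟩ := h.tr4 (a' := b) (b' := a) (c' := d) (d' := c) h1
      (by simp [*, hab.symm, hcd.symm]) h2 (by simpa [and_comm, and_left_comm] using h2)
    obtain ⟨u, hu, v, hv, e1, e2, e3⟩ := h.two_fix (by omega) hz h1 h2 za zb zc zd
    obtain ⟨h3, m, h4⟩ := h.fix hz (fun e => hab (by rw [← za, e]; rfl)) Nat.prime_two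
      (h.eq4 (pow_mem hz 2) (one_mem G) h1 h2 (by simp [sq, *]) (by simp [sq, *])
        (by simp [sq, *]) (by simp [sq, *]))
    have h5 : 1 < (Ω.filter fun a => z a = a).card :=
      Finset.one_lt_card.mpr ⟨u, by simp [*], v, by simp [*], e1⟩
    have h6 : (Ω.filter fun a => z a = a) = Ω \ [a, b, c, d].toFinset := by
      refine Finset.eq_of_subset_of_card_le (fun p hp => ?_) ?_
      · obtain ⟨e4, e5⟩ := Finset.mem_filter.mp hp
        simp only [Finset.mem_sdiff, e4, List.mem_toFinset, List.mem_cons, List.not_mem_nil, true_and]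
        rintro (rfl | rfl | rfl | rfl | e) <;> simp_all
      · rw [Finset.card_sdiff_of_subset fun p hp => h2 p (List.mem_toFinset.mp hp),
          List.toFinset_card_of_nodup h1]
        simp; omega
    exact ⟨z, hz, za, zb, zc, fun p hp e => (Finset.mem_filter.mp (h6.symm ▸ Finset.mem_sdiff.mpr
      ⟨hp, by simpa using e⟩ : p ∈ Ω.filter fun a => z a = a)).2⟩
  obtain ⟨f, hf⟩ := Function.Embedding.exists_of_card_le_finset (α := Fin 7) (s := Ω) (by simp [hn])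
  have hf : ∀ i, f i ∈ Ω := fun i => hf ⟨i, rfl⟩
  obtain ⟨z, hz, a1, a2, a3, a4⟩ := key (f 0) (f 1) (f 2) (f 3) (by simp) (by simp [hf])
  obtain ⟨w, hw, b1, b2, b3, b4⟩ := key (f 0) (f 1) (f 2) (f 4) (by simp) (by simp [hf])
  have := h.eq4 hz hw (a := f 0) (b := f 1) (c := f 5) (d := f 6) (by simp) (by simp [hf]) (a1.trans b1.symm)
    (a2.trans b2.symm) (by rw [a4 _ (hf _) (by simp), b4 _ (hf _) (by simp)])
    (by rw [a4 _ (hf _) (by simp), b4 _ (hf _) (by simp)])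
  rw [this, b3] at a3
  simp at a3

theorem Sharp.ne_ten : Ω.card ≠ 10 := fun hn => by
  obtain ⟨f, hf⟩ := Function.Embedding.exists_of_card_le_finset (α := Fin 5) (s := Ω) (by simp [hn])
  have hf : ∀ i, f i ∈ Ω := fun i => hf ⟨i, rfl⟩
  have h1 := ((h.stab (hf 0)).stab (e := f 1) (by simp [hf])).stab (e := f 2) (by simp [hf])
  set P := G ⊓ stabilizer _ (f 0) ⊓ stabilizer _ (f 1) ⊓ stabilizer _ (f 2) with hP
  set S := ((Ω.erase (f 0)).erase (f 1)).erase (f 2) with hS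
  have h2 : S.card = 7 := by
    rw [Finset.card_erase_of_mem (by simp [hf]), Finset.card_erase_of_mem (by simp [hf]),
      Finset.card_erase_of_mem (hf _), hn]
  have h3 : Nat.card P = 7 := by rw [h1.card (by omega), h2]; rfl
  have h4 : ∀ q ∈ S, ∃ v ∈ P, v (f 3) = q := fun q hq => by
    simpa using h1.exists_of (by omega) (S := {f 3}) (by simp [hS, hf]) (by simp) (Equiv.swap (f 3) q)
      (by simpa using hq)
  obtain ⟨u, hu, h5⟩ := h4 (f 4) (by simp [hS, hf])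
  have := Fact.mk (by norm_num : Nat.Prime 7)
  have h6 : ∀ v ∈ P, ∃ i : ℤ, u ^ i = v := fun v hv => by
    obtain ⟨i, e⟩ := mem_zpowers_of_prime_card h3 (g := ⟨u, hu⟩) (g' := ⟨v, hv⟩) (fun e => by
      have : u = 1 := congrArg Subtype.val e
      simp [this] at h5)
    exact ⟨i, congrArg Subtype.val e⟩
  obtain ⟨g, hg, ga, gb, gc, gd⟩ := h.tr4 (a := f 0) (b := f 1) (c := f 2) (d := f 3)
    (a' := f 1) (b' := f 2) (c' := f 0) (d' := f 3) (by simp) (by simp) (by simp [hf]) (by simp [hf])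
  obtain ⟨t, ht, ta, tb, tc, td⟩ := h.tr4 (a := f 0) (b := f 1) (c := f 2) (d := f 3)
    (a' := f 1) (b' := f 0) (c' := f 2) (d' := f 3) (by simp) (by simp) (by simp [hf]) (by simp [hf])
  have hm : ∀ v, v ∈ P ↔ v ∈ G ∧ v (f 0) = f 0 ∧ v (f 1) = f 1 ∧ v (f 2) = f 2 := by simp [hP, and_assoc]
  have ⟨u0, u1, u2, u3⟩ := (hm u).mp hu
  obtain ⟨i, hi⟩ := h6 (g⁻¹ * u * g) ((hm _).mpr ⟨mul_mem (mul_mem (inv_mem hg) u0) hg,
    by simp [*, Equiv.symm_apply_eq]⟩)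
  obtain ⟨j, hj⟩ := h6 (t⁻¹ * u * t) ((hm _).mpr ⟨mul_mem (mul_mem (inv_mem ht) u0) ht,
    by simp [*, Equiv.symm_apply_eq]⟩)
  have h7 : Commute (g * t * g⁻¹ * t⁻¹) u := by
    have e1 : t⁻¹ * (g⁻¹ * u * g) * t = g⁻¹ * (t⁻¹ * u * t) * g := by
      have a1 := conj_zpow (i := i) (a := t⁻¹) (b := u)
      have a2 := conj_zpow (i := j) (a := g⁻¹) (b := u)
      rw [inv_inv] at a1 a2
      rw [← hi, ← a1, ← hj, ← a2, ← hi, ← zpow_mul, ← zpow_mul, mul_comm]
    calc g * t * g⁻¹ * t⁻¹ * u = g * t * (g⁻¹ * (t⁻¹ * u * t) * g) * g⁻¹ * t⁻¹ := by group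
      _ = u * (g * t * g⁻¹ * t⁻¹) := by rw [← e1]; group
  have h8 : g * t * g⁻¹ * t⁻¹ = 1 := h.eq_of (mul_mem (mul_mem (mul_mem hg ht) (inv_mem hg)) (inv_mem ht))
    (one_mem G) (S := S) (fun p hp => by simp [hS] at hp; tauto) (by omega) fun q hq => by
      obtain ⟨v, hv, rfl⟩ := h4 q hq
      obtain ⟨i, rfl⟩ := h6 v hv
      rw [← Equiv.Perm.mul_apply, (h7.zpow_right i).eq, Equiv.Perm.mul_apply]
      simp [t.symm_apply_eq.mpr td.symm, g.symm_apply_eq.mpr gd.symm, td, gd]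
  have h9 : (g * t) (f 0) = (t * g) (f 0) := by
    rw [mul_inv_eq_one, mul_inv_eq_iff_eq_mul] at h8; rw [h8]
  simp [*] at h9

end core

/-- a four-group in a sharply 4-transitive group. -/
structure KF (G : Subgroup (Equiv.Perm α)) (Ω : Finset α) (x y : Equiv.Perm α) (f : Fin 4 ↪ α) : Prop where
  h : Sharp 4 G Ω
  hf : ∀ i, f i ∈ Ω
  hx : x ∈ G
  hy : y ∈ G
  xa : x (f 0) = f 1
  xb : x (f 1) = f 0
  xc : x (f 2) = f 2
  xd : x (f 3) = f 3
  ya : y (f 0) = f 0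
  yb : y (f 1) = f 1
  yc : y (f 2) = f 3
  yd : y (f 3) = f 2

namespace KF
variable {x y : Equiv.Perm α} {f : Fin 4 ↪ α} (K : KF G Ω x y f)
include K

section
omit [Fintype α]

theorem E {g g' : Equiv.Perm α} (a : g ∈ G) (b : g' ∈ G) : g (f 0) = g' (f 0) → g (f 1) = g' (f 1) →
    g (f 2) = g' (f 2) → g (f 3) = g' (f 3) → g = g' := K.h.eq4 a b (by simp) (by simp [K.hf])

theorem xy : x * y = y * x := by
  obtain ⟨-, -, hx, hy, _, _, _, _, _, _, _, _⟩ := id K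
  apply K.E (mul_mem hx hy) (mul_mem hy hx) <;> simp [*]

theorem x2 (p : α) : x (x p) = p := by
  obtain ⟨-, -, hx, hy, _, _, _, _, _, _, _, _⟩ := id K
  have : x * x = 1 := by apply K.E (mul_mem hx hx) (one_mem G) <;> simp [*]
  exact congrArg (· p) this

theorem y2 (p : α) : y (y p) = p := by
  obtain ⟨-, -, hx, hy, _, _, _, _, _, _, _, _⟩ := id K
  have : y * y = 1 := by apply K.E (mul_mem hy hy) (one_mem G) <;> simp [*]
  exact congrArg (· p) this

theorem yx (p : α) : y (x p) = x (y p) := congrArg (· p) K.xy.symm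

omit [DecidableEq α] in
theorem x1 : x ≠ 1 := fun e => by simpa [e] using K.xa

omit [DecidableEq α] in
theorem y1 : y ≠ 1 := fun e => by simpa [e] using K.yc

theorem F1 : (Ω.filter fun q => x q = q ∧ y q ≠ q) = {f 2, f 3} :=
  K.h.fix_comm K.hx K.hy K.x1 K.xy (K.hf 2) (K.hf 3) (by simp) K.xc K.xd K.yc K.yd

theorem F2 : (Ω.filter fun q => y q = q ∧ x q ≠ q) = {f 0, f 1} :=
  K.h.fix_comm K.hy K.hx K.y1 K.xy.symm (K.hf 0) (K.hf 1) (by simp) K.ya K.yb K.xa K.xb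

theorem C {c : Equiv.Perm α} (hc : c ∈ G) (c1 : c * x = x * c) (c2 : c * y = y * c) :
    c = 1 ∨ c = x ∨ c = y ∨ c = x * y := by
  obtain ⟨h, hf, hx, hy, xa, _, xc, _, ya, _, yc, _⟩ := id K
  have c1 : ∀ p, c (x p) = x (c p) := fun p => congrArg (· p) c1
  have c2 : ∀ p, c (y p) = y (c p) := fun p => congrArg (· p) c2
  have a1 : c (f 0) ∈ ({f 0, f 1} : Finset α) := K.F2 ▸ Finset.mem_filter.mpr ⟨h.inv hc (hf _),
    by rw [← c2, ya], by rw [← c1, xa]; simp⟩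
  have a2 : c (f 2) ∈ ({f 2, f 3} : Finset α) := K.F1 ▸ Finset.mem_filter.mpr ⟨h.inv hc (hf _),
    by rw [← c1, xc], by rw [← c2, yc]; simp⟩
  have a3 := c1 (f 0)
  have a4 := c2 (f 2)
  simp only [Finset.mem_insert, Finset.mem_singleton] at a1 a2
  rw [xa] at a3; rw [yc] at a4
  clear c1 c2
  rcases a1 with a1 | a1 <;> rcases a2 with a2 | a2
  · left; apply K.E hc (one_mem G) <;> simp [*]
  · right; right; left; apply K.E hc hy <;> simp [*]
  · right; left; apply K.E hc hx <;> simp [*]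
  · right; right; right; apply K.E hc (mul_mem hx hy) <;> simp [*]

theorem two {a b : α} (ha : a ∈ Ω) (hb : b ∈ Ω) (a1 : x a = a) (b1 : x b = b) (a2 : y a = a) (b2 : y b = b) :
    a = b := by_contra fun e => by
  have a3 : a ≠ f 2 := by rintro rfl; simp [K.yc] at a2
  have a4 : a ≠ f 3 := by rintro rfl; simp [K.yd] at a2
  have b3 : b ≠ f 2 := by rintro rfl; simp [K.yc] at b2
  have b4 : b ≠ f 3 := by rintro rfl; simp [K.yd] at b2
  exact K.x1 (K.h.eq4 K.hx (one_mem G) (a := a) (b := b) (c := f 2) (d := f 3) (by simp [*]) (by simp [*, K.hf])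
    a1 b1 K.xc K.xd)

theorem N {p : α} (hp : p ∈ Ω.filter fun p => x p ≠ p ∧ y p ≠ p ∧ x (y p) ≠ p) :
    [p, x p, y p, x (y p)].Nodup ∧ ∀ q ∈ [p, x p, y p, x (y p)], q ∈ Ω := by
  obtain ⟨hp, a1, a2, a3⟩ := Finset.mem_filter.mp hp
  have a4 : x p ≠ y p := fun e => a3 (by rw [← e, K.x2])
  have a5 : y p ≠ x (y p) := fun e => a1 (y.injective (by rw [K.yx, ← e]))
  exact ⟨by simp [a1.symm, a2.symm, a3.symm, a4, a5], by simp [hp, K.h.inv K.hx, K.h.inv K.hy]⟩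

theorem T {p : α} (hp : p ∈ Ω.filter fun p => x p ≠ p ∧ y p ≠ p ∧ x (y p) ≠ p) : ∃ t ∈ G, t p = p ∧
    t (y p) = x (y p) ∧ t * x = x * t ∧ t * y = x * y * t ∧ t * t = 1 := by
  obtain ⟨a1, a2⟩ := K.N hp
  have := K.x2; have := K.y2; have := K.yx
  obtain ⟨t, ht, b1, b2, b3, b4⟩ := K.h.tr4 (a' := p) (b' := x p) (c' := x (y p)) (d' := y p) a1
    (a1.perm (.cons _ (.cons _ (.swap _ _ _)))) a2 (by simpa [and_comm] using a2)
  refine ⟨t, ht, b1, b3, K.h.eq4 (mul_mem ht K.hx) (mul_mem K.hx ht) a1 a2 ?_ ?_ ?_ ?_,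
    K.h.eq4 (mul_mem ht K.hy) (mul_mem (mul_mem K.hx K.hy) ht) a1 a2 ?_ ?_ ?_ ?_,
    K.h.eq4 (mul_mem ht ht) (one_mem G) a1 a2 ?_ ?_ ?_ ?_⟩ <;> simp [*]

theorem R1 {p : α} (hp : p ∈ Ω.filter fun p => x p ≠ p ∧ y p ≠ p ∧ x (y p) ≠ p) :
    (Ω.filter fun p => x p ≠ p ∧ y p ≠ p ∧ x (y p) ≠ p) = [p, x p, y p, x (y p)].toFinset := by
  obtain ⟨a1, a2⟩ := K.N hp
  have x2 := K.x2; have y2 := K.y2; have yx := K.yx
  refine Finset.Subset.antisymm (fun q hq => by_contra fun e => ?_) fun q hq => ?_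
  · obtain ⟨t, ht, b1, b2, b3, b4, b5⟩ := K.T hp
    obtain ⟨s, hs, c1, c2, c3, c4, c5⟩ := K.T hq
    obtain ⟨d1, d2⟩ := K.N hq
    have t2 : ∀ p, t (t p) = p := fun p => congrArg (· p) b5
    have s2 : ∀ p, s (s p) = p := fun p => congrArg (· p) c5
    have tx : ∀ p, t (x p) = x (t p) := fun p => congrArg (· p) b3
    have sx : ∀ p, s (x p) = x (s p) := fun p => congrArg (· p) c3
    have ty : ∀ p, t (y p) = x (y (t p)) := fun p => congrArg (· p) b4
    have sy : ∀ p, s (y p) = x (y (s p)) := fun p => congrArg (· p) c4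
    simp only [List.mem_toFinset, List.mem_cons, List.not_mem_nil, not_or] at e
    obtain ⟨e1, e2, e3, e4, -⟩ := e
    obtain ⟨hp, p1, p2, p3⟩ := Finset.mem_filter.mp hp
    obtain ⟨hq, q1, q2, q3⟩ := Finset.mem_filter.mp hq
    have key : ∀ r ∈ Ω, x r ≠ r → q ≠ r → q ≠ x r → s r ≠ r := fun r hr r1 r2 r3 r4 => by
      have r5 : x q ≠ r := fun e => r3 (by rw [← e, x2])
      have := K.h.eq4 hs (one_mem G) (a := q) (b := x q) (c := r) (d := x r)
        (by simp [q1.symm, r1.symm, r2, r3, r5]) (by simp [hq, hr, K.h.inv K.hx]) c1 (by rw [sx, c1]; rfl) r4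
        (by rw [sx, r4]; rfl)
      rw [this] at c2
      exact q1 (y.injective (by rw [yx, ← c2]; rfl))
    rcases K.C (mul_mem ht hs) (by ext; simp [tx, sx]) (by ext; simp [tx, ty, sy, x2]) with e | e | e | e <;>
      have e' : ∀ r, s r = t (_ : α) := fun r => (t2 _).symm.trans (congrArg t (congrArg (· r) e))
    · exact key p hp p1 e1 e2 (by simp [e', b1])
    · exact key (y p) (K.h.inv K.hy hp) (fun e => p1 (y.injective (by rw [yx, e]))) e3 e4
        (by simp [e', tx, b2, x2])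
    · exact q1 (by simpa [e', ty, tx, x2, y2, yx, t2] using s2 q)
    · exact q1 (by simpa [e', ty, tx, x2, y2, yx, t2] using s2 q)
  · obtain ⟨hp, b1, b2, b3⟩ := Finset.mem_filter.mp hp
    refine Finset.mem_filter.mpr ⟨a2 q (List.mem_toFinset.mp hq), ?_⟩
    simp only [List.mem_toFinset, List.mem_cons, List.not_mem_nil, or_false] at hq
    have b4 : y (x p) ≠ x p := fun e => b2 (x.injective (by rw [← yx, e]))
    have b5 : x (y p) ≠ y p := fun e => b1 (y.injective (by rw [yx, e]))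
    have b6 : y p ≠ x p := fun e => b3 (by rw [e, x2])
    rcases hq with rfl | rfl | rfl | rfl <;>
      simp [x2, y2, yx, b1, b2, b3, b5, b6, b1.symm, b2.symm, b3.symm, b5.symm, b6.symm]

theorem klein {p : α} (hp : p ∈ Ω.filter fun p => x p ≠ p ∧ y p ≠ p ∧ x (y p) ≠ p) {v : Equiv.Perm α}
    (hv : v ∈ G) (v1 : ∀ q, v (v q) = q) (v2 : ∀ q ∈ Ω.filter fun p => x p ≠ p ∧ y p ≠ p ∧ x (y p) ≠ p,
      v q ∈ (Ω.filter fun p => x p ≠ p ∧ y p ≠ p ∧ x (y p) ≠ p) ∧ v q ≠ q) : v = x ∨ v = y ∨ v = x * y := by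
  obtain ⟨a1, a2⟩ := K.N hp
  have x2 := K.x2; have y2 := K.y2; have yx := K.yx
  rw [K.R1 hp] at v2
  simp only [List.mem_toFinset, List.mem_cons, List.not_mem_nil, or_false, forall_eq_or_imp, forall_eq] at v2
  have b1 := v1 p; have b2 := v1 (x p); have b3 := v1 (y p); have b4 := v1 (x (y p))
  have a3 : (p ≠ x p ∧ p ≠ y p ∧ p ≠ x (y p)) ∧ (x p ≠ y p ∧ x p ≠ x (y p)) ∧ y p ≠ x (y p) := by
    simpa only [List.nodup_cons, List.mem_cons, List.not_mem_nil, or_false, not_or, not_false_eq_true,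
      List.nodup_nil, and_true] using a1
  have : (v p = x p ∧ v (x p) = p ∧ v (y p) = x (y p) ∧ v (x (y p)) = y p) ∨
      (v p = y p ∧ v (x p) = x (y p) ∧ v (y p) = p ∧ v (x (y p)) = x p) ∨
      (v p = x (y p) ∧ v (x p) = y p ∧ v (y p) = x p ∧ v (x (y p)) = p) := by
    clear x2 y2 yx v1 a1 a2 hp K
    generalize x (y p) = d at *; generalize x p = b at *; generalize y p = c at *
    grind
  rcases this with ⟨c1, c2, c3, c4⟩ | ⟨c1, c2, c3, c4⟩ | ⟨c1, c2, c3, c4⟩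
  · left; apply K.h.eq4 hv K.hx a1 a2 <;> simp [c1, c2, c3, c4, x2]
  · right; left; apply K.h.eq4 hv K.hy a1 a2 <;> simp [c1, c2, c3, c4, y2, yx]
  · right; right; apply K.h.eq4 hv (mul_mem K.hx K.hy) a1 a2 <;> simp [c1, c2, c3, c4, x2, y2, yx]

end

theorem card (hn : 6 ≤ Ω.card) : Ω.card = 6 + (Ω.filter fun p => x p = p ∧ y p = p).card +
    (Ω.filter fun p => x p ≠ p ∧ y p ≠ p ∧ x (y p) ≠ p).card := by
  obtain ⟨h, hf, hx, hy, xa, _, xc, xd, ya, _, yc, _⟩ := id K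
  have hz := mul_mem hx hy
  obtain ⟨u, hu, u1, u2⟩ : ∃ u ∈ Ω, (x * y) u = u ∧ x u ≠ u := by
    obtain ⟨u, hu, v, hv, e1, e2, e3⟩ := h.two_fix hn hz (a := f 0) (b := f 1) (c := f 2) (d := f 3)
      (by simp) (by simp [hf]) (by simp [*]) (by simp [*]) (by simp [*]) (by simp [*])
    by_contra! h1
    have key : ∀ u ∈ Ω, (x * y) u = u → y u = u := fun u hu e => x.injective (e.trans (h1 u hu e).symm)
    exact e1 (K.two hu hv (h1 u hu e2) (h1 v hv e3) (key u hu e2) (key v hv e3))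
  have F3 := h.fix_comm hz hx (fun e => by simpa [xa, ya] using congrArg (· (f 0)) e)
    (by rw [mul_assoc, ← K.xy]) hu (h.inv hx hu) u2.symm u1
    (by rw [Equiv.Perm.mul_apply, K.yx, ← Equiv.Perm.mul_apply x y, u1]) rfl (K.x2 u)
  have a1 := Finset.card_filter_add_card_filter_not (s := Ω) fun p => x p = p
  have a2 := Finset.card_filter_add_card_filter_not (s := Ω.filter fun p => x p = p) fun p => y p = p
  have a3 := Finset.card_filter_add_card_filter_not (s := Ω.filter fun p => ¬ x p = p) fun p => y p = p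
  have a4 := Finset.card_filter_add_card_filter_not (s := Ω.filter fun p => ¬ x p = p ∧ ¬ y p = p)
    fun p => x (y p) = p
  simp only [Finset.filter_filter] at a2 a3 a4
  have b1 : (Ω.filter fun p => x p = p ∧ ¬ y p = p).card = 2 := by
    rw [← Finset.card_pair (show f 2 ≠ f 3 by simp), ← K.F1]
  have b2 : (Ω.filter fun p => ¬ x p = p ∧ y p = p).card = 2 := by
    rw [← Finset.card_pair (show f 0 ≠ f 1 by simp), ← K.F2]; simp only [and_comm]
  have b3 : (Ω.filter fun p => (¬ x p = p ∧ ¬ y p = p) ∧ x (y p) = p).card = 2 := by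
    rw [← Finset.card_pair u2.symm, ← F3]
    refine congrArg _ (Finset.filter_congr fun p _ =>
      ⟨fun e => ⟨e.2, e.1.1⟩, fun e => ⟨⟨e.2, fun e' => e.2 ?_⟩, e.1⟩⟩)
    rw [← e.1, Equiv.Perm.mul_apply, K.x2, e', ← e', ← Equiv.Perm.mul_apply, e.1, e']
  simp only [and_assoc] at a4 b3
  simp only [ne_eq]
  omega

end KF

theorem Sharp.core (h : Sharp 4 G Ω) (hn : 7 ≤ Ω.card) : Ω.card = 11 ∧
    ∃ B ⊆ Ω, B.card = 4 ∧ ∃ e ∈ Ω, e ∉ B ∧ Full (G ⊓ stabilizer _ e) B := by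
  obtain ⟨f, hf⟩ := Function.Embedding.exists_of_card_le_finset (α := Fin 4) (s := Ω) (by simp; omega)
  have hf : ∀ i, f i ∈ Ω := fun i => hf ⟨i, rfl⟩
  obtain ⟨x, hx, xa, xb, xc, xd⟩ := h.tr4 (a := f 0) (b := f 1) (c := f 2) (d := f 3)
    (a' := f 1) (b' := f 0) (c' := f 2) (d' := f 3) (by simp) (by simp) (by simp [hf]) (by simp [hf])
  obtain ⟨y, hy, ya, yb, yc, yd⟩ := h.tr4 (a := f 0) (b := f 1) (c := f 2) (d := f 3)
    (a' := f 0) (b' := f 1) (c' := f 3) (d' := f 2) (by simp) (by simp) (by simp [hf]) (by simp [hf])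
  have K : KF G Ω x y f := ⟨h, hf, hx, hy, xa, xb, xc, xd, ya, yb, yc, yd⟩
  clear xa xb xc xd ya yb yc yd
  have hc := K.card (by omega)
  have R1 := fun p => K.R1 (p := p)
  have N := fun p => K.N (p := p)
  have V := fun p v => K.klein (p := p) (v := v)
  set R := Ω.filter fun p => x p ≠ p ∧ y p ≠ p ∧ x (y p) ≠ p with hR
  set F := Ω.filter fun p => x p = p ∧ y p = p with hF
  have hF1 : F.card ≤ 1 := Finset.card_le_one.mpr fun a ha b hb => by
    simp only [hF, Finset.mem_filter] at ha hb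
    exact K.two ha.1 hb.1 ha.2.1 hb.2.1 ha.2.2 hb.2.2
  obtain ⟨p, hp⟩ : R.Nonempty := Finset.card_pos.mp (by have := h.ne_seven; omega)
  obtain ⟨a1, a2⟩ := N p hp
  have hR4 : R.card = 4 := by rw [R1 p hp, List.toFinset_card_of_nodup a1]; rfl
  obtain ⟨e, he⟩ : F.Nonempty := Finset.card_pos.mp (by have := h.ne_ten; omega)
  have := Finset.card_pos.mpr ⟨e, he⟩
  obtain ⟨he', e1, e2⟩ := Finset.mem_filter.mp he
  refine ⟨by omega, R, Finset.filter_subset _ _, hR4, e, he', fun e' => (Finset.mem_filter.mp e').2.1 e1,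
    fun π hπ => ?_⟩
  obtain ⟨g, hg, h1⟩ := h.exists_of (by omega) (Finset.filter_subset _ _) hR4.le π
    fun p hp => Finset.mem_of_mem_filter _ (hπ p hp)
  have h2 : ∀ q ∈ R, g q ∈ R := fun q hq => (h1 q hq).symm ▸ hπ q hq
  have h3 : ∀ w ∈ G, (∀ q, w (w q) = q) → (∀ q ∈ R, w q ∈ R ∧ w q ≠ q) → w (g e) = g e := fun w hw w1 w2 => by
    have : (g⁻¹ * w * g) e = e := by
      rcases V p _ hp (mul_mem (mul_mem (inv_mem hg) hw) hg) (by simp [w1]) fun q hq =>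
        ⟨Equiv.Perm.perm_symm_on_of_perm_on_finset h2 (w2 _ (h2 q hq)).1,
          fun e => (w2 _ (h2 q hq)).2 (Equiv.Perm.inv_eq_iff_eq.mp e)⟩ with h | h | h <;> simp [h, e1, e2]
    exact Equiv.Perm.inv_eq_iff_eq.mp this
  exact ⟨g, ⟨hg, K.two (h.inv hg he') he'
    (h3 x hx K.x2 fun q hq => ⟨by rw [R1 q hq]; simp, (Finset.mem_filter.mp hq).2.1⟩) e1
    (h3 y hy K.y2 fun q hq => ⟨by rw [R1 q hq]; simp, (Finset.mem_filter.mp hq).2.2.1⟩) e2⟩, h1⟩

theorem Sharp.five (h : Sharp 5 G Ω) (hn : 8 ≤ Ω.card) : Ω.card = 12 ∧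
    ∃ B ⊆ Ω, B.card = 5 ∧ ∃ e ∈ Ω, e ∉ B ∧ Full (G ⊓ stabilizer _ e) B := by
  obtain ⟨e, he⟩ : Ω.Nonempty := Finset.card_pos.mp (by omega)
  have h1 := Finset.card_erase_of_mem he
  obtain ⟨h2, B, h3, h4, d, h5, h6, h7⟩ := (h.stab he).core (by omega)
  refine ⟨by omega, insert d B, (Finset.insert_subset h5 h3).trans (Finset.erase_subset _ _),
    by rw [Finset.card_insert_of_notMem h6, h4], e, he, fun h8 => ?_, (h.stab he).full le_rfl h2 h3 h4 h5 h6 h7⟩
  exact Finset.notMem_erase e Ω (Finset.insert_subset h5 h3 h8)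

theorem Sharp.six (h : Sharp 6 G Ω) : Ω.card ≤ 8 := by
  by_contra! hn
  obtain ⟨e, he⟩ : Ω.Nonempty := Finset.card_pos.mp (by omega)
  have h1 := Finset.card_erase_of_mem he
  obtain ⟨h2, B, h3, h4, d, h5, h6, h7⟩ := (h.stab he).five (by omega)
  have h8 := Finset.insert_subset h5 h3
  have h9 : (insert d B).card = 6 := by rw [Finset.card_insert_of_notMem h6, h4]
  have h10 : e ∉ insert d B := fun h => Finset.notMem_erase e Ω (h8 h)
  have h11 := h.full (by norm_num) (by omega) (h8.trans (Finset.erase_subset _ _)) h9 he h10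
    ((h.stab he).full (by norm_num) h2 h3 h4 h5 h6 h7)
  have h12 : insert e (insert d B) ⊆ Ω := Finset.insert_subset he (h8.trans (Finset.erase_subset _ _))
  have h13 : (insert e (insert d B)).card = 7 := by rw [Finset.card_insert_of_notMem h10, h9]
  generalize insert e (insert d B) = S at h11 h12 h13
  obtain ⟨c, c1, c2⟩ : ∃ c : Equiv.Perm α, c.IsCycle ∧ c.support = S := by
    refine ⟨S.toList.formPerm, List.isCycle_formPerm S.nodup_toList (by simp [h13]), ?_⟩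
    rw [List.support_formPerm_of_nodup _ S.nodup_toList fun x e => by simpa [h13] using congrArg List.length e]
    simp
  have c3 : ∀ n, ∀ p ∈ S, (c ^ n) p ∈ S := fun n p hp => by rwa [← c2, Equiv.Perm.pow_apply_mem_support, c2]
  obtain ⟨u, hu, u1⟩ := h11 c (by simpa using c3 1)
  have u2 : ∀ n, ∀ p ∈ S, (u ^ n) p = (c ^ n) p := fun n p hp => by
    induction n with
    | zero => rfl
    | succ n ih => rw [pow_succ', pow_succ', Equiv.Perm.mul_apply, Equiv.Perm.mul_apply, ih, u1 _ (c3 n p hp)]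
  have u3 : ∀ p ∈ S, u p ≠ p := fun p hp => by rw [u1 p hp, ← Equiv.Perm.mem_support, c2]; exact hp
  obtain ⟨p, hp⟩ : S.Nonempty := Finset.card_pos.mp (by omega)
  obtain ⟨u4, m, u5⟩ := h.fix hu (fun e => u3 p hp (by rw [e]; rfl)) (by norm_num : Nat.Prime 7)
    (h.eq_of (pow_mem hu 7) (one_mem G) h12 (by omega) fun p hp => by
      rw [u2 7 p hp, ← h13, ← c2, ← c1.orderOf, pow_orderOf_eq_one])
  omega

theorem Sharp.large (hk : 6 ≤ k) (h : Sharp k G Ω) : Ω.card ≤ k + 2 := by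
  induction k, hk using Nat.le_induction generalizing G Ω with
  | base => exact h.six
  | succ k _ ih =>
    by_contra! hn
    obtain ⟨e, he⟩ : Ω.Nonempty := Finset.card_pos.mp (by omega)
    have := ih (h.stab he)
    rw [Finset.card_erase_of_mem he] at this
    omega

end Cfsg.Lib.Golay
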