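import Cfsg.Agent.Lib.Golay.Iso

/-! Isomorphisms between coded permutation groups, by enumerating the graph. -/

set_option autoImplicit false

namespace Cfsg.Lib.Golay

open Subgroup

variable {α β : Type*}

/-- the coding of a disjoint union -/
def Coding.sum (c : Coding α) (d : Coding β) (h : c.n + d.n ≤ 256) : Coding (α ⊕ β) where
  n := c.n + d.n
  idx := Sum.elim c.idx fun b => c.n + d.idx b
  pt i := if i < c.n then .inl (c.pt i) else .inr (d.pt (i - c.n))
  n_le := h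
  idx_lt := by
    rintro (a | b)
    exacts [(c.idx_lt a).trans_le (Nat.le_add_right ..), Nat.add_lt_add_left (d.idx_lt b) _]
  pt_idx := by rintro (a | b) <;> simp [c.idx_lt, c.pt_idx, d.pt_idx]
  idx_pt i hi := by
    split_ifs with h1
    · exact c.idx_pt i h1
    · show c.n + d.idx _ = i
      rw [d.idx_pt _ (by omega)]; omega

/-- the code of a pair -/
noncomputable def prN (m n : ℕ) (p : ℕ × ℕ) : ℕ :=
  packN 8 (fun i => bif' (Nat.ble m i) (m + app p.2 (i - m)) (app p.1 i)) (m + n)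

theorem Coding.dec_prN {c : Coding α} {d : Coding β} (h : c.n + d.n ≤ 256) {p : ℕ × ℕ} (h1 : c.Valid p.1) (h2 : d.Valid p.2) :
    (c.sum d h).Valid (prN c.n d.n p) ∧ (c.sum d h).dec (prN c.n d.n p) = Equiv.Perm.sumCongr (c.dec p.1) (d.dec p.2) := by
  have hf : ∀ i < c.n + d.n, bif' (Nat.ble c.n i) (c.n + app p.2 (i - c.n)) (app p.1 i) < 256 := fun i hi => by
    rw [bif'_eq]
    split_ifs with h3
    · have := h2.app_lt (i := i - c.n) (by have := ble_iff.1 h3; omega); omega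
    · exact app_lt _ _
  refine Coding.dec_eq_of (c := c.sum d h) (packN_lt 8 _ _ hf) ?_
  rintro (a | b)
  · refine (app_packN _ _ hf _ ((c.sum d h).idx_lt (.inl a))).trans ?_
    show bif' (Nat.ble c.n (c.idx a)) _ _ = c.idx _
    rw [ble_false_iff.2 (c.idx_lt a), bif'_false]; exact (h1.idx_dec a).symm
  · refine (app_packN _ _ hf _ ((c.sum d h).idx_lt (.inr b))).trans ?_
    show bif' (Nat.ble c.n (c.n + d.idx b)) (c.n + app p.2 (c.n + d.idx b - c.n)) _ = c.n + d.idx _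
    rw [ble_iff.2 (Nat.le_add_right ..), bif'_true, Nat.add_sub_cancel_left]; exact congrArg _ (h2.idx_dec b).symm

theorem nonempty_equiv_map {G H : Type*} [Group G] [Group H] [Finite G] (f : G →* H) (D : Subgroup G)
    (h : Nat.card (D.map f) = Nat.card D) : Nonempty (D ≃* D.map f) :=
  nonempty_equiv_of_surj (f.subgroupMap D) (f.subgroupMap_surjective D) h.ge

theorem Coding.iso_of_codes [Finite α] [Finite β] {c : Coding α} {d : Coding β} (h : c.n + d.n ≤ 256) {l : List (ℕ × ℕ)}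
    {xs ys : List ℕ} (hx : xs = l.map Prod.fst) (hy : ys = l.map Prod.snd) (h1 : ∀ x ∈ xs, c.Valid x) (h2 : ∀ y ∈ ys, d.Valid y)
    {N M e a : ℕ} (h3 : Nat.card (c.gen xs) = N) (h4 : Nat.card (d.gen ys) = N)
    (h5 : bfsH M e (mapL (mulN (c.n + d.n)) (mapL (prN c.n d.n) l)) a (idN (c.n + d.n)) (fun _ L => Nat.beq (lenL L) N) = true) :
    Nonempty (c.gen xs ≃* d.gen ys) := by
  subst hx hy
  have hv : ∀ p ∈ l, _ := fun p hp => Coding.dec_prN h (h1 _ (List.mem_map_of_mem hp)) (h2 _ (List.mem_map_of_mem hp))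
  have h6 := Coding.card_gen (c := c.sum d h) (by
    rw [mapL_eq, List.forall_mem_map]; exact fun p hp => (hv p hp).1) h5
  let D : Subgroup (Equiv.Perm α × Equiv.Perm β) := closure {x | ∃ p ∈ l, (c.dec p.1, d.dec p.2) = x}
  have e0 : (c.sum d h).gen (mapL (prN c.n d.n) l) = D.map (Equiv.Perm.sumCongrHom α β) := by
    rw [MonoidHom.map_closure, Coding.gen, mapL_eq]; congr 1; ext σ
    exact ⟨fun ⟨_, hp, e⟩ => let ⟨p, hp, e1⟩ := List.mem_map.1 hp; ⟨_, ⟨p, hp, rfl⟩, (hv p hp).2.symm.trans (e1 ▸ e)⟩,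
      fun ⟨_, ⟨p, hp, e1⟩, e⟩ => ⟨_, List.mem_map_of_mem hp, (hv p hp).2.trans (e1 ▸ e :)⟩⟩
  have e1 : c.gen (l.map Prod.fst) = D.map (MonoidHom.fst _ _) := by
    rw [MonoidHom.map_closure, Coding.gen]; congr 1; ext σ; simp
  have e2 : d.gen (l.map Prod.snd) = D.map (MonoidHom.snd _ _) := by
    rw [MonoidHom.map_closure, Coding.gen]; congr 1; ext σ; simp; tauto
  rw [e0, card_map_of_injective Equiv.Perm.sumCongrHom_injective] at h6
  rw [e1] at h3 ⊢
  rw [e2] at h4 ⊢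
  obtain ⟨f⟩ := nonempty_equiv_map _ D (h3.trans h6.symm)
  obtain ⟨g⟩ := nonempty_equiv_map _ D (h4.trans h6.symm)
  exact ⟨f.symm.trans g⟩

theorem sylow_iso [Group α] [Finite α] {G : Type*} [Group G] {K S : Subgroup G} (e : α ≃* K) (hS : S ≤ K) {p k m : ℕ}
    [Fact p.Prime] (h1 : Nat.card S = p ^ k) (h2 : Nat.card K = p ^ k * m) (hm : ¬ p ∣ m) (P : Sylow p α) : Nonempty (P ≃* S) :=
  let ⟨Q, ⟨f⟩, _⟩ := exists_sylow_transport e hS h1 h2 hm; ⟨(P.equiv Q).trans f⟩

end Cfsg.Lib.Golay
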