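import Cfsg.Agent.Lib.Golay.Graph

/-! Uniqueness of the strongly regular graphs with parameters `(100,22,0,6)` and `(77,16,0,4)`. -/

set_option autoImplicit false
set_option maxHeartbeats 400000

namespace Cfsg.Lib.Golay

open Finset

variable {V : Type*} [Fintype V] [DecidableEq V] {G : SimpleGraph V} [DecidableRel G.Adj] {n k μ : ℕ}

variable (G) in
/-- adjacency indicator. -/
def adjZ (u v : V) : ℤ := if G.Adj u v then 1 else 0

variable (G) in
/-- common neighbours. -/
def cnb (x r : V) : Finset V := univ.filter fun z => G.Adj x z ∧ G.Adj r z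

variable (G) in
/-- number of neighbours of `z` in `S`. -/
def nbZ (S : Finset V) (z : V) : ℤ := ∑ s ∈ S, adjZ G z s

section basic
omit [Fintype V] [DecidableEq V]

theorem adjZ_comm (u v : V) : adjZ G u v = adjZ G v u := by simp only [adjZ, G.adj_comm]
theorem adjZ_pos {u v : V} (h : G.Adj u v) : adjZ G u v = 1 := if_pos h
theorem adjZ_neg {u v : V} (h : ¬ G.Adj u v) : adjZ G u v = 0 := if_neg h
theorem nbZ_eq (S : Finset V) (z : V) : nbZ G S z = (S.filter (G.Adj z)).card := by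
  simp [nbZ, adjZ, sum_boole]
theorem nbZ_nonneg (S : Finset V) (z : V) : 0 ≤ nbZ G S z := by rw [nbZ_eq]; positivity
theorem nbZ_eq_zero {S : Finset V} {z : V} : nbZ G S z = 0 ↔ ∀ s ∈ S, ¬ G.Adj z s := by
  simp [nbZ_eq, filter_eq_empty_iff]
theorem nbZ_eq_card {S : Finset V} {z : V} (h : ∀ s ∈ S, G.Adj z s) : nbZ G S z = S.card := by
  rw [nbZ_eq, filter_true_of_mem h]
theorem sum_nbZ_comm (S T : Finset V) : ∑ t ∈ T, nbZ G S t = ∑ s ∈ S, nbZ G T s := by
  simp only [nbZ]; rw [sum_comm]; simp only [adjZ_comm]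
end basic

omit [DecidableEq V] in
theorem mem_cnb {x r z : V} : z ∈ cnb G x r ↔ G.Adj x z ∧ G.Adj r z := by simp [cnb]

omit [DecidableEq V] in
theorem card_cnb (x r : V) : Fintype.card (G.commonNeighbors x r) = (cnb G x r).card := by
  classical
  rw [← Set.toFinset_card]; congr 1; ext; simp [mem_cnb, SimpleGraph.mem_commonNeighbors]

section srg
variable (hG : G.IsSRGWith n k 0 μ)
include hG

omit [DecidableEq V] in
theorem srg_tri {x a b : V} (h1 : G.Adj x a) (h2 : G.Adj x b) : ¬ G.Adj a b := fun h => by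
  have := hG.of_adj _ _ h
  rw [card_cnb, card_eq_zero] at this
  exact notMem_empty x (this ▸ mem_cnb.mpr ⟨h1.symm, h2.symm⟩)

omit [DecidableEq V] in
theorem srg_cnb {x r : V} (h1 : x ≠ r) (h2 : ¬ G.Adj x r) : (cnb G x r).card = μ :=
  (card_cnb x r).symm.trans (hG.of_not_adj h1 h2)

omit [DecidableEq V] in
theorem sum_adjZ (s : V) : ∑ z, adjZ G z s = k := by
  rw [← hG.regular s, SimpleGraph.degree, SimpleGraph.neighborFinset_eq_filter, ← nbZ_eq]
  simp only [nbZ, adjZ_comm s]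

theorem sum_adjZ_mul (s t : V) : ∑ z, adjZ G z s * adjZ G z t =
    μ + (k - μ) * (if s = t then 1 else 0) - μ * adjZ G s t := by
  have : ∑ z, adjZ G z s * adjZ G z t = (cnb G s t).card := by
    simp [adjZ, cnb, ← ite_and, G.adj_comm, and_comm]
  split_ifs with e
  · rw [e, adjZ_neg G.irrefl, sum_congr rfl fun z _ => show _ = adjZ G z t by simp [adjZ], sum_adjZ hG]
    ring
  · rw [this]
    by_cases h : G.Adj s t
    · rw [← card_cnb, hG.of_adj _ _ h, adjZ_pos h]; simp
    · rw [srg_cnb hG e h, adjZ_neg h]; simp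

omit [DecidableEq V] in
theorem sum_nbZ (S : Finset V) : ∑ z, nbZ G S z = k * S.card := by
  simp only [nbZ]; rw [sum_comm]; simp [sum_adjZ hG, mul_comm]

theorem sum_nbZ_sq {S : Finset V} (hS : ∀ s ∈ S, ∀ t ∈ S, ¬ G.Adj s t) :
    ∑ z, nbZ G S z * nbZ G S z = (μ * S.card + (k - μ)) * S.card := by
  simp only [nbZ, sum_mul_sum]
  rw [sum_comm, sum_congr rfl fun s hs => show _ = (μ * S.card + (k - μ) : ℤ) by
    rw [sum_comm, sum_congr rfl fun t ht => by rw [sum_adjZ_mul hG, adjZ_neg (hS s hs t ht)]]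
    simp [sum_add_distrib, hs, mul_comm]]
  simp [mul_comm]

omit [DecidableEq V] in
theorem nbZ_cnb_zero {x r z : V} (h : G.Adj x z ∨ G.Adj r z) : nbZ G (cnb G x r) z = 0 :=
  nbZ_eq_zero.mpr fun _ hs => h.elim (fun h => srg_tri hG h (mem_cnb.mp hs).1)
    fun h => srg_tri hG h (mem_cnb.mp hs).2

end srg

/-! ### The Higman–Sims graph -/

theorem hs_two (hG : G.IsSRGWith 100 22 0 6) {x r y : V} (h1 : x ≠ r) (h2 : ¬ G.Adj x r) (h3 : y ≠ x)
    (h4 : y ≠ r) (h5 : ¬ G.Adj x y) (h6 : ¬ G.Adj r y) : nbZ G (cnb G x r) y = 2 := by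
  have hc := srg_cnb hG h1 h2
  have a1 := sum_nbZ hG (cnb G x r)
  have a2 := sum_nbZ_sq hG (S := cnb G x r) fun s hs t ht => srg_tri hG (mem_cnb.mp hs).1 (mem_cnb.mp ht).1
  have a3 := sum_adjZ_mul hG x r
  rw [if_neg h1, adjZ_neg h2] at a3
  rw [hc] at a1 a2
  have key := (sum_eq_zero_iff_of_nonneg (s := univ) (f := fun z => (nbZ G (cnb G x r) z - 2) ^ 2 -
    (16 * (if z = x then 1 else 0) + 16 * (if z = r then 1 else 0) +
      4 * (adjZ G z x + adjZ G z r - adjZ G z x * adjZ G z r))) fun z _ => by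
    by_cases e1 : z = x
    · rw [e1, nbZ_eq_card fun s hs => (mem_cnb.mp hs).1, hc]; simp [h1, adjZ, h2]
    by_cases e2 : z = r
    · rw [e2, nbZ_eq_card fun s hs => (mem_cnb.mp hs).2, hc]; simp [h1.symm, adjZ, h2, G.adj_comm r x]
    by_cases e3 : G.Adj x z ∨ G.Adj r z
    · rw [nbZ_cnb_zero hG e3]; simp only [adjZ, e1, e2, if_false]; split_ifs <;> simp
    · push Not at e3
      simp [e1, e2, adjZ, G.adj_comm z, e3, sq_nonneg]).mp (by
    simp only [show ∀ a : ℤ, (a - 2) ^ 2 = a * a - 4 * a + 4 from fun a => by ring, sum_add_distrib,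
      sum_sub_distrib, ← mul_sum, a1, a2, a3,
      sum_adjZ hG, sum_ite_eq', mem_univ, if_true, sum_const, card_univ, hG.card]
    norm_num) y (mem_univ y)
  simpa [h3, h4, adjZ, G.adj_comm y, h5, h6, sub_eq_zero] using key

theorem srg_hs_rows (hG : G.IsSRGWith 100 22 0 6) : ∃ c : Coding V, c.n = 100 ∧ Rows c G hsRow := by
  obtain ⟨x⟩ : Nonempty V := Fintype.card_pos_iff.mp (by rw [hG.card]; norm_num)
  let bl : V → Finset (G.neighborSet x) := fun v => univ.filter fun p => G.Adj v p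
  have hb : ∀ u v, ((bl u ∩ bl v).card : ℤ) = nbZ G (cnb G x u) v := fun u v => by
    rw [nbZ_eq, ← card_map (Function.Embedding.subtype _)]
    congr 2; ext z; simp [bl, mem_cnb]; tauto
  let R := univ.filter fun v => v ≠ x ∧ ¬ G.Adj x v
  have hR : ∀ v, v ∈ R ↔ v ≠ x ∧ ¬ G.Adj x v := fun v => by simp [R]
  have h6 : ∀ v ∈ R, (bl v).card = 6 := fun v hv => by
    have := hb v v
    rw [inter_self, nbZ_eq_card fun s hs => (mem_cnb.mp hs).2,
      srg_cnb hG ((hR v).mp hv).1.symm ((hR v).mp hv).2] at this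
    exact_mod_cast this
  have h2 : ∀ u ∈ R, ∀ v ∈ R, u ≠ v → (bl u ∩ bl v).card = if G.Adj u v then 0 else 2 :=
    fun u hu v hv e => by
      have := hb u v
      rw [hR] at hu hv
      split_ifs with h
      · rw [nbZ_cnb_zero hG (Or.inr h)] at this; exact_mod_cast this
      · rw [hs_two hG hu.1.symm hu.2 hv.1 e.symm hv.2 h] at this; exact_mod_cast this
  have hi : Set.InjOn bl R := fun u hu v hv e => by
    by_contra h
    have := h2 u hu v hv h
    rw [e, inter_self, h6 v hv] at this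
    split_ifs at this <;> omega
  have hα : Fintype.card (G.neighborSet x) = 22 := by
    rw [SimpleGraph.card_neighborSet_eq_degree, hG.regular x]
  have hRc : R.card = 77 := by
    have : R = (insert x (G.neighborFinset x))ᶜ := by ext; simp [R]
    rw [this, card_compl, card_insert_of_notMem (by simp), hG.card, SimpleGraph.card_neighborFinset_eq_degree,
      hG.regular x]
  have hB : IsSteinerSystem 3 6 (bl '' R) := steiner_of_packing (by rintro _ ⟨v, hv, rfl⟩; exact h6 v hv)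
    (by
      rintro _ ⟨u, hu, rfl⟩ _ ⟨v, hv, rfl⟩ h
      by_contra e
      rw [h2 u hu v hv fun e' => e (by rw [e'])] at h
      split_ifs at h <;> omega) (by rw [hi.ncard_image, Set.ncard_coe_finset, hRc, hα]; decide)
  let ν : V → Finset (G.neighborSet x) := fun v =>
    if h : G.Adj x v then {⟨v, h⟩} else if v = x then ∅ else bl v
  have c0 : ν x = ∅ := by simp [ν]
  have c1 : ∀ v (h : G.Adj x v), ν v = {⟨v, h⟩} := fun v h => dif_pos h
  have c2 : ∀ v ∈ R, ν v = bl v := fun v hv => by simp [ν, (hR v).mp hv]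
  have c3 : ∀ v, v = x ∨ G.Adj x v ∨ v ∈ R := fun v => by rw [hR]; tauto
  have h1 : ∀ (a : G.neighborSet x) (b : Finset _), ({a} ∩ b).card = 1 ↔ a ∈ b := fun a b => by
    by_cases h : a ∈ b <;> simp [h]
  have h1' : ∀ (a : G.neighborSet x) (b : Finset _), (b ∩ {a}).card = 1 ↔ a ∈ b := fun a b => by
    rw [inter_comm, h1]
  refine exists_hs_rows hα hB (ν := ν) (fun u v e => ?_) (fun s => ⟨?_, ?_⟩) fun u v => ?_
  · have := congrArg card e
    rcases c3 u with rfl | hu | hu <;> rcases c3 v with rfl | hv | hv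
    · rfl
    · simp [c0, c1 v hv] at this
    · simp [c0, c2 v hv, h6 v hv] at this
    · simp [c0, c1 u hu] at this
    · exact congrArg Subtype.val (singleton_injective ((c1 u hu).symm.trans (e.trans (c1 v hv))))
    · simp [c1 u hu, c2 v hv, h6 v hv] at this
    · simp [c0, c2 u hu, h6 u hu] at this
    · simp [c1 v hv, c2 u hu, h6 u hu] at this
    · exact hi hu hv (by rwa [c2 u hu, c2 v hv] at e)
  · rintro ⟨v, rfl⟩
    rcases c3 v with rfl | hv | hv
    exacts [by simp [c0], by simp [c1 v hv], Or.inr ⟨v, hv, (c2 v hv).symm⟩]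
  · rintro (h | ⟨v, hv, rfl⟩)
    · have : Nonempty (G.neighborSet x) := Fintype.card_pos_iff.mp (by omega)
      obtain ⟨p, hp⟩ := card_le_one_iff_subset_singleton.mp h
      rcases subset_singleton_iff.mp hp with rfl | rfl
      exacts [⟨x, c0⟩, ⟨p, c1 p p.2⟩]
    · exact ⟨v, c2 v hv⟩
  · rcases c3 u with rfl | hu | hu <;> rcases c3 v with rfl | hv | hv
    · simp [hsRel, c0]
    · simp [hsRel, c0, c1 v hv, hv]
    · simp [hsRel, c0, c2 v hv, h6 v hv, ((hR v).mp hv).2]
    · simp [hsRel, c0, c1 u hu, hu.symm]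
    · simp [hsRel, c1 u hu, c1 v hv, srg_tri hG hu hv]
    · simp [hsRel, c1 u hu, c2 v hv, h6 v hv, h1, bl, G.adj_comm]
    · simp [hsRel, c0, c2 u hu, h6 u hu, ((hR u).mp hu).2, G.adj_comm u]
    · simp [hsRel, c1 v hv, c2 u hu, h6 u hu, h1', bl]
    · by_cases e : u = v
      · simp [hsRel, e, c2 v hv, h6 v hv, -card_eq_zero]
      · simp [hsRel, c2 v hv, h6 v hv, c2 u hu, h6 u hu, h2 u hu v hv e, -card_eq_zero]

/-! ### The `M22` graph -/

variable (G) in
/-- the Gram matrix of the projection onto the eigenspace of `-6`. -/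
def gramZ (u v : V) : ℤ := 22 * (if u = v then 1 else 0) + 2 - 11 * adjZ G u v

variable (G) in
/-- inner product with the sum of the vertices in `S`. -/
def phiZ (S : Finset V) (z : V) : ℤ := ∑ s ∈ S, gramZ G z s

variable (G) in
/-- collinear triples. -/
def Tri (x r y : V) : Prop := (x ≠ r ∧ ¬ G.Adj x r) ∧ (x ≠ y ∧ ¬ G.Adj x y) ∧ (r ≠ y ∧ ¬ G.Adj r y) ∧
  ∀ z, G.Adj x z → G.Adj r z → ¬ G.Adj y z

instance (x r : V) : DecidablePred (Tri G x r) := fun _ => by unfold Tri; infer_instance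

variable (G) in
/-- the further points on the line through `x` and `r`. -/
def thirds (x r : V) : Finset V := univ.filter (Tri G x r)

variable (G) in
/-- the line through `x` and `r`. -/
def lineG (x r : V) : Finset V := insert x (insert r (thirds G x r))

section gram
omit [Fintype V]

omit [DecidableEq V] [DecidableRel G.Adj] in
theorem Tri.swap {x r y : V} (h : Tri G x r y) : Tri G r x y :=
  ⟨⟨h.1.1.symm, fun e => h.1.2 e.symm⟩, h.2.2.1, h.2.1, fun z a b => h.2.2.2 z b a⟩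

omit [DecidableEq V] [DecidableRel G.Adj] in
theorem Tri.swap' {x r y : V} (h : Tri G x r y) : Tri G x y r :=
  ⟨h.2.1, h.1, ⟨h.2.2.1.1.symm, fun e => h.2.2.1.2 e.symm⟩, fun z a b c => h.2.2.2 z a c b⟩

theorem gramZ_comm (u v : V) : gramZ G u v = gramZ G v u := by
  simp only [gramZ, adjZ_comm u, eq_comm (a := u)]
theorem gramZ_self (u : V) : gramZ G u u = 24 := by simp [gramZ, adjZ]
theorem gramZ_adj {u v : V} (h : G.Adj u v) : gramZ G u v = -9 := by simp [gramZ, adjZ, h, h.ne]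
theorem gramZ_non {u v : V} (h : u ≠ v) (h' : ¬ G.Adj u v) : gramZ G u v = 2 := by simp [gramZ, adjZ, h, h']
theorem phiZ_eq (S : Finset V) (z : V) :
    phiZ G S z = 22 * (if z ∈ S then 1 else 0) + 2 * S.card - 11 * nbZ G S z := by
  simp [phiZ, gramZ, nbZ, sum_add_distrib, mul_sum, mul_comm]
theorem sum_phiZ_comm (S T : Finset V) : ∑ t ∈ T, phiZ G S t = ∑ s ∈ S, phiZ G T s := by
  simp only [phiZ]; rw [sum_comm]; simp only [gramZ_comm]
theorem sum_gramZ_comm (S : Finset V) (x : V) : ∑ t ∈ S, gramZ G t x = phiZ G S x := by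
  simp only [phiZ, gramZ_comm x]
end gram

theorem mem_thirds {x r y : V} : y ∈ thirds G x r ↔ Tri G x r y := by simp [thirds]

theorem thirds_comm (x r : V) : thirds G x r = thirds G r x := by
  ext; simp only [mem_thirds]; exact ⟨Tri.swap, Tri.swap⟩

theorem lineG_comm (x r : V) : lineG G x r = lineG G r x := by
  rw [lineG, lineG, thirds_comm, insert_comm]

omit [DecidableEq V] in
theorem cnb_comm (x r : V) : cnb G x r = cnb G r x := by ext; simp only [mem_cnb, and_comm]

omit [DecidableEq V] in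
theorem nbZ_cnb_rot (x r y : V) : nbZ G (cnb G x r) y = nbZ G (cnb G r y) x := by
  simp only [nbZ_eq]; congr 2; ext; simp only [mem_filter, mem_cnb]; tauto

variable (G) in
/-- functions in the eigenspace. -/
def Eig (F : V → ℤ) : Prop := ∑ z, F z = 0 ∧ ∀ t, ∑ z, F z * gramZ G z t = 88 * F t

theorem Eig.add {F F' : V → ℤ} (h : Eig G F) (h' : Eig G F') : Eig G fun z => F z + F' z :=
  ⟨by simp [sum_add_distrib, h.1, h'.1], fun t => by simp [add_mul, sum_add_distrib, h.2, h'.2, mul_add]⟩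

theorem Eig.mul {F : V → ℤ} (h : Eig G F) (a : ℤ) : Eig G fun z => a * F z :=
  ⟨by simp [← mul_sum, h.1], fun t => by simp only [mul_assoc, ← mul_sum, h.2]; ring⟩

theorem Eig.phi {F : V → ℤ} (h : Eig G F) (T : Finset V) :
    ∑ z, F z * phiZ G T z = 88 * ∑ t ∈ T, F t := by
  simp only [phiZ, mul_sum]; rw [sum_comm]; simp only [h.2]

section m22
variable (hG : G.IsSRGWith 77 16 0 4)
include hG

theorem eig_gram (s : V) : Eig G fun z => gramZ G z s := by
  refine ⟨?_, fun t => ?_⟩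
  · simp [gramZ, sum_add_distrib, ← mul_sum, sum_adjZ hG, hG.card]
  · have : ∀ z, gramZ G z s * gramZ G z t = (if z = s then 22 * gramZ G z t else 0) +
        (if z = t then 22 * (2 - 11 * adjZ G z s) else 0) + 4 - 22 * adjZ G z s - 22 * adjZ G z t +
        121 * (adjZ G z s * adjZ G z t) := fun z => by simp only [gramZ]; split_ifs <;> ring
    simp only [this, sum_add_distrib, sum_sub_distrib, ← mul_sum, sum_adjZ hG, sum_adjZ_mul hG, sum_ite_eq',
      mem_univ, if_true, sum_const, card_univ, hG.card]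
    simp only [gramZ, adjZ_comm t, eq_comm (a := t)]
    push_cast; ring

theorem eig_phi (S : Finset V) : Eig G (phiZ G S) := by
  refine ⟨?_, fun t => ?_⟩
  · simp only [phiZ]; rw [sum_comm]; simp only [(eig_gram hG _).1, sum_const_zero]
  · simp only [phiZ, sum_mul]; rw [sum_comm]; simp only [(eig_gram hG _).2, mul_sum]

theorem three_le_two {x r y : V} (h1 : x ≠ r ∧ ¬ G.Adj x r) (h2 : x ≠ y ∧ ¬ G.Adj x y)
    (h3 : r ≠ y ∧ ¬ G.Adj r y) : nbZ G (cnb G x r) y ≤ 2 := by
  have key : ∀ x r y, x ≠ r ∧ ¬ G.Adj x r → x ≠ y ∧ ¬ G.Adj x y → r ≠ y ∧ ¬ G.Adj r y →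
      ∀ F : V → ℤ, (∀ z, F z = 3 * (gramZ G z x + gramZ G z r + gramZ G z y) +
        (phiZ G (cnb G x r) z + phiZ G (cnb G r y) z + phiZ G (cnb G y x) z)) →
      F x = 20 - 11 * nbZ G (cnb G x r) y ∧
        ∑ c ∈ cnb G x r, F c = -8 + 11 * nbZ G (cnb G x r) y := fun x r y h1 h2 h3 F hF => by
    have c1 := srg_cnb hG h1.1 h1.2
    have c2 := srg_cnb hG h3.1 h3.2
    have c3 := srg_cnb hG h2.1.symm fun e => h2.2 e.symm
    constructor
    · rw [hF, gramZ_self, gramZ_non h1.1 h1.2, gramZ_non h2.1 h2.2, phiZ_eq, phiZ_eq, phiZ_eq,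
        nbZ_eq_card (z := x) (S := cnb G x r) fun s hs => (mem_cnb.mp hs).1,
        nbZ_eq_card (z := x) (S := cnb G y x) fun s hs => (mem_cnb.mp hs).2, c1, c2, c3, nbZ_cnb_rot x r y]
      simp [mem_cnb, G.adj_comm r x, h1.2]; ring
    · rw [sum_congr rfl fun c hc => show F c = -2 + 11 * adjZ G y c by
        obtain ⟨a, b⟩ := mem_cnb.mp hc
        rw [hF, gramZ_adj a.symm, gramZ_adj b.symm, phiZ_eq, phiZ_eq, phiZ_eq, nbZ_cnb_zero hG (Or.inl a),
          nbZ_cnb_zero hG (Or.inl b), nbZ_cnb_zero hG (Or.inr a), c1, c2, c3]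
        by_cases h : G.Adj y c
        · simp [gramZ_adj h.symm, mem_cnb, a, b, h, adjZ]
        · rw [gramZ_non (by rintro rfl; exact h2.2 a) fun e => h e.symm]; simp [mem_cnb, a, b, h, adjZ]]
      rw [sum_add_distrib, ← mul_sum, sum_const, c1]; rfl
  have hE := ((((eig_gram hG x).add (eig_gram hG r)).add (eig_gram hG y)).mul 3).add
    (((eig_phi hG (cnb G x r)).add (eig_phi hG (cnb G r y))).add (eig_phi hG (cnb G y x)))
  generalize hF : (fun z => _) = F at hE
  replace hF := fun z => (congrFun hF z).symm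
  have a1 := key x r y h1 h2 h3 F hF
  have a2 := key r y x h3 ⟨h1.1.symm, fun e => h1.2 e.symm⟩ ⟨h2.1.symm, fun e => h2.2 e.symm⟩ F
    fun z => by rw [hF]; ring
  have a3 := key y x r ⟨h2.1.symm, fun e => h2.2 e.symm⟩ ⟨h3.1.symm, fun e => h3.2 e.symm⟩ h1 F
    fun z => by rw [hF]; ring
  have h4 : 0 ≤ ∑ z, F z * F z := sum_nonneg fun z _ => mul_self_nonneg _
  rw [sum_congr rfl fun z _ => congrArg (F z * ·) (hF z)] at h4
  simp only [mul_add, sum_add_distrib, mul_left_comm _ (3 : ℤ), ← mul_sum, hE.2, hE.phi] at h4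
  rw [← nbZ_cnb_rot, ← nbZ_cnb_rot] at a3
  rw [← nbZ_cnb_rot] at a2
  omega

/-- the key linear relation between a line and the common neighbours of two of its points. -/
theorem thirds_key {x r : V} (h1 : x ≠ r) (h2 : ¬ G.Adj x r) : (thirds G x r).card = 3 ∧
    ∀ z, phiZ G (thirds G x r) z = 3 * (gramZ G z x + gramZ G z r) + 2 * phiZ G (cnb G x r) z := by
  have hE := (((eig_gram hG x).add (eig_gram hG r)).mul 3).add ((eig_phi hG (cnb G x r)).mul 2)
  generalize hF : (fun z => _) = W at hE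
  replace hF := fun z => (congrFun hF z).symm
  have c1 := srg_cnb hG h1 h2
  have h2' : ¬ G.Adj r x := fun e => h2 e.symm
  have a1 : W x = 6 := by
    rw [hF, gramZ_self, gramZ_non h1 h2, phiZ_eq, nbZ_eq_card fun s hs => (mem_cnb.mp hs).1, c1]
    simp [mem_cnb]
  have a2 : W r = 6 := by
    rw [hF, gramZ_self, gramZ_non h1.symm h2', phiZ_eq, nbZ_eq_card fun s hs => (mem_cnb.mp hs).2, c1]
    simp [mem_cnb]
  have a3 : ∀ c ∈ cnb G x r, W c = 6 := fun c hc => by
    obtain ⟨a, b⟩ := mem_cnb.mp hc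
    rw [hF, gramZ_adj a.symm, gramZ_adj b.symm, phiZ_eq, nbZ_cnb_zero hG (Or.inl a), c1]; simp [hc]
  have a4 : ∀ y, y ≠ x → y ≠ r → ¬ G.Adj x y → ¬ G.Adj r y → W y = 28 - 22 * nbZ G (cnb G x r) y :=
    fun y e1 e2 e3 e4 => by
      rw [hF, gramZ_non e1 fun e => e3 e.symm, gramZ_non e2 fun e => e4 e.symm, phiZ_eq, c1]
      simp [mem_cnb, e3]; ring
  have a5 : ∀ y, Tri G x r y ↔ y ≠ x ∧ y ≠ r ∧ ¬ G.Adj x y ∧ ¬ G.Adj r y ∧ nbZ G (cnb G x r) y = 0 :=
    fun y => by simp only [Tri, nbZ_eq_zero, mem_cnb, and_imp, h1, h2, ne_comm (a := y)]; tauto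
  have a6 : ∑ z, W z * W z = 7392 := by
    rw [sum_congr rfl fun z _ => congrArg (W z * ·) (hF z)]
    simp only [mul_add, sum_add_distrib, mul_left_comm _ (3 : ℤ), mul_left_comm _ (2 : ℤ), ← mul_sum,
      hE.2, hE.phi, a1, a2, sum_congr rfl a3, sum_const, c1]
    norm_num
  have a7 : ∀ z, W z * W z + 10 * W z - 96 = 968 * (if z ∈ thirds G x r then 1 else 0) -
      121 * (adjZ G z x + adjZ G z r - 2 * (adjZ G z x * adjZ G z r)) := fun z => by
    simp only [mem_thirds, a5, adjZ, G.adj_comm z]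
    by_cases e1 : z = x
    · simp [e1, a1, h2']
    by_cases e2 : z = r
    · simp [e2, a2, h2]
    by_cases e3 : G.Adj x z <;> by_cases e4 : G.Adj r z
    · simp [a3 z (mem_cnb.mpr ⟨e3, e4⟩), e3, e4]
    · rw [hF, gramZ_adj e3.symm, gramZ_non e2 fun e => e4 e.symm, phiZ_eq, nbZ_cnb_zero hG (Or.inl e3), c1]
      simp [mem_cnb, e3, e4]
    · rw [hF, gramZ_adj e4.symm, gramZ_non e1 fun e => e3 e.symm, phiZ_eq, nbZ_cnb_zero hG (Or.inr e4), c1]
      simp [mem_cnb, e3, e4]
    · have b1 := three_le_two hG ⟨h1, h2⟩ ⟨Ne.symm e1, e3⟩ ⟨Ne.symm e2, e4⟩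
      have b2 := nbZ_nonneg (G := G) (cnb G x r) z
      rw [a4 z e1 e2 e3 e4]
      generalize nbZ G (cnb G x r) z = m at b1 b2
      interval_cases m <;> simp [e1, e2, e3, e4]
  have a8 : (thirds G x r).card = 3 := by
    have := sum_congr (rfl : (univ : Finset V) = univ) fun z _ => a7 z
    simp only [sum_add_distrib, sum_sub_distrib, ← mul_sum, a6, hE.1, sum_adjZ hG, sum_adjZ_mul hG,
      sum_const, card_univ, hG.card, sum_boole, if_neg h1, adjZ_neg h2, filter_mem_eq_inter, univ_inter] at this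
    norm_num at this; omega
  refine ⟨a8, fun z => ?_⟩
  have a9 : ∑ y ∈ thirds G x r, W y = 84 := by
    rw [sum_congr rfl fun y hy => show W y = 28 by
      obtain ⟨e1, e2, e3, e4, e5⟩ := (a5 y).mp (mem_thirds.mp hy)
      rw [a4 y e1 e2 e3 e4, e5]; rfl, sum_const, a8]; rfl
  have a10 : ∑ y ∈ thirds G x r, phiZ G (thirds G x r) y ≤ 84 := by
    refine (sum_le_card_nsmul _ _ 28 fun y hy => ?_).trans (by rw [a8]; rfl)
    have := nbZ_nonneg (G := G) (thirds G x r) y
    rw [phiZ_eq, if_pos hy, a8]; omega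
  have := (sum_eq_zero_iff_of_nonneg (s := univ) (f := fun z => (W z - phiZ G (thirds G x r) z) ^ 2)
    fun z _ => sq_nonneg _).mp (le_antisymm (by
      simp only [show ∀ a b : ℤ, (a - b) ^ 2 = a * a - 2 * (a * b) + b * b from fun a b => by ring,
        sum_add_distrib, sum_sub_distrib, ← mul_sum, a6, hE.phi, (eig_phi hG _).phi, a9]
      omega) (sum_nonneg fun z _ => sq_nonneg _)) z (mem_univ z)
  rw [← hF, ← sub_eq_zero.mp (pow_eq_zero_iff two_ne_zero |>.mp this)]

theorem thirds_sum {x r : V} (h1 : x ≠ r) (h2 : ¬ G.Adj x r) (S : Finset V) :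
    ∑ y ∈ thirds G x r, phiZ G S y = 3 * (phiZ G S x + phiZ G S r) + 2 * ∑ c ∈ cnb G x r, phiZ G S c := by
  rw [sum_phiZ_comm, sum_congr rfl fun z _ => (thirds_key hG h1 h2).2 z, sum_add_distrib, ← mul_sum,
    ← mul_sum, sum_add_distrib, sum_gramZ_comm, sum_gramZ_comm, sum_phiZ_comm]

theorem nbZ_thirds {x r z : V} (h1 : x ≠ r) (h2 : ¬ G.Adj x r) (h3 : G.Adj x z) :
    nbZ G (thirds G x r) z = 1 - adjZ G z r := by
  have := (thirds_key hG h1 h2).2 z
  rw [phiZ_eq, phiZ_eq, (thirds_key hG h1 h2).1, srg_cnb hG h1 h2, gramZ_adj h3.symm,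
    nbZ_cnb_zero hG (Or.inl h3), if_neg fun h => (mem_thirds.mp h).2.1.2 h3] at this
  by_cases h : G.Adj z r
  · rw [gramZ_adj h, if_pos (mem_cnb.mpr ⟨h3, h.symm⟩)] at this; rw [adjZ_pos h]; omega
  · rw [gramZ_non (by rintro rfl; exact h2 h3) h, if_neg fun e => h (mem_cnb.mp e).2.symm] at this
    rw [adjZ_neg h]; omega

theorem Tri.of_two {x r y y' : V} (h : Tri G x r y) (h' : Tri G x r y') (e : y ≠ y') : Tri G x y y' := by
  refine ⟨h.2.1, h'.2.1, ⟨e, ?_⟩, fun z a b c => ?_⟩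
  · have := (thirds_key hG h.1.1 h.1.2).2 y
    rw [phiZ_eq, phiZ_eq, (thirds_key hG h.1.1 h.1.2).1, srg_cnb hG h.1.1 h.1.2, if_pos (mem_thirds.mpr h),
      gramZ_non h.2.1.1.symm fun e => h.2.1.2 e.symm, gramZ_non h.2.2.1.1.symm fun e => h.2.2.1.2 e.symm,
      if_neg fun e => h.2.1.2 (mem_cnb.mp e).1, (nbZ_eq_zero (S := cnb G x r)).mpr fun s hs =>
        h.2.2.2 s (mem_cnb.mp hs).1 (mem_cnb.mp hs).2] at this
    exact nbZ_eq_zero.mp (by omega) y' (mem_thirds.mpr h')
  · have h1 := nbZ_thirds hG h.1.1 h.1.2 a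
    have h2 := card_le_card (show {y, y'} ⊆ (thirds G x r).filter (G.Adj z) by
      simp [insert_subset_iff, mem_thirds, h, h', b.symm, c.symm])
    rw [card_pair e] at h2
    rw [nbZ_eq, adjZ] at h1
    split_ifs at h1 <;> omega

theorem card_lineG {x r : V} (h1 : x ≠ r) (h2 : ¬ G.Adj x r) : (lineG G x r).card = 5 := by
  rw [lineG, card_insert_of_notMem (by simp [h1, mem_thirds, Tri]),
    card_insert_of_notMem (by simp [mem_thirds, Tri]), (thirds_key hG h1 h2).1]

theorem lineG_eq {x r u v : V} (h1 : x ≠ r) (h2 : ¬ G.Adj x r) (hu : u ∈ lineG G x r)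
    (hv : v ∈ lineG G x r) (e : u ≠ v) : ¬ G.Adj u v ∧ lineG G u v = lineG G x r := by
  have key : ∀ x r v, x ≠ r → ¬ G.Adj x r → v ∈ lineG G x r → x ≠ v →
      ¬ G.Adj x v ∧ lineG G x v = lineG G x r := fun x r v h1 h2 hv e => by
    simp only [lineG, mem_insert, mem_thirds] at hv
    rcases hv with rfl | rfl | hv
    · exact absurd rfl e
    · exact ⟨h2, rfl⟩
    refine ⟨hv.2.1.2, (eq_of_subset_of_card_le (fun w hw => ?_) (by
      rw [card_lineG hG h1 h2, card_lineG hG e hv.2.1.2])).symm⟩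
    simp only [lineG, mem_insert, mem_thirds] at hw ⊢
    rcases hw with rfl | rfl | hw
    exacts [Or.inl rfl, Or.inr (Or.inr hv.swap'),
      Or.inr ((eq_or_ne w v).imp_right fun e => hv.of_two hG hw e.symm)]
  by_cases h : x = u
  · subst h; exact key x r v h1 h2 hv e
  · obtain ⟨a, b⟩ := key x r u h1 h2 hu h
    rw [← b, lineG_comm x u] at hv ⊢
    exact key u x v (Ne.symm h) (fun e => a e.symm) hv e

theorem nbZ_lineG {x r l z : V} (h1 : x ≠ r) (h2 : ¬ G.Adj x r) (hl : l ∈ lineG G x r) (h : G.Adj l z) :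
    nbZ G (lineG G x r) z = 2 := by
  obtain ⟨l', hl', e⟩ := exists_mem_ne (show 1 < _ by rw [card_lineG hG h1 h2]; norm_num) l
  obtain ⟨a, b⟩ := lineG_eq hG h1 h2 hl hl' e.symm
  have := nbZ_thirds hG e.symm a h
  rw [← b, nbZ, lineG, sum_insert (by simp [e.symm, mem_thirds, Tri]), sum_insert (by simp [mem_thirds, Tri]),
    adjZ_pos h.symm, ← nbZ, this]; ring

/-- closure of the set of vertices not joined to a line. -/
theorem far_closed {x r l z y : V} (h1 : x ≠ r) (h2 : ¬ G.Adj x r) (hl : l ∈ lineG G x r)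
    (hz : z ∉ lineG G x r ∧ nbZ G (lineG G x r) z = 0) (hy : y ∈ lineG G z l) (e : y ≠ l) :
    y ∉ lineG G x r ∧ nbZ G (lineG G x r) y = 0 := by
  have a1 : z ≠ l := fun e => hz.1 (e ▸ hl)
  have a2 := nbZ_eq_zero.mp hz.2 l hl
  have a3 : ∀ y ∈ thirds G z l, y ∉ lineG G x r := fun y hy h => hz.1 (by
    have hy := mem_thirds.mp hy
    rw [← (lineG_eq hG h1 h2 hl h hy.2.2.1.1).2]; simp [lineG, mem_thirds, hy.swap.swap'])
  simp only [lineG, mem_insert] at hy
  rcases hy with rfl | rfl | hy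
  · exact hz
  · exact absurd rfl e
  refine ⟨a3 y hy, ?_⟩
  have := thirds_sum hG a1 a2 (lineG G x r)
  rw [sum_congr (s₁ := cnb G z l) rfl fun c hc => show phiZ G (lineG G x r) c = -12 by
    have h3 := (mem_cnb.mp hc).2
    rw [phiZ_eq, card_lineG hG h1 h2, nbZ_lineG hG h1 h2 hl h3,
      if_neg fun h => (lineG_eq hG h1 h2 hl h h3.ne).1 h3]; rfl,
    sum_congr (s₁ := thirds G z l) rfl fun y hy => show phiZ G (lineG G x r) y = 10 - 11 * nbZ G (lineG G x r) y by
      rw [phiZ_eq, card_lineG hG h1 h2, if_neg (a3 y hy)]; rfl, sum_const, srg_cnb hG a1 a2,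
    phiZ_eq, phiZ_eq, card_lineG hG h1 h2, if_neg hz.1, if_pos hl, hz.2, nbZ_eq_zero.mpr fun s hs => by
      by_cases e : l = s
      exacts [e ▸ G.irrefl, (lineG_eq hG h1 h2 hl hs e).1], sum_sub_distrib, ← mul_sum, sum_const,
    (thirds_key hG a1 a2).1] at this
  exact (sum_eq_zero_iff_of_nonneg fun y _ => nbZ_nonneg _ y).mp (by norm_num at this; omega) y hy

/-- a maximal coclique is closed under lines. -/
theorem plane_closed {K : Finset V} (hK : K.card = 21) (hc : ∀ u ∈ K, ∀ v ∈ K, ¬ G.Adj u v) {x r : V}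
    (hx : x ∈ K) (hr : r ∈ K) (e : x ≠ r) : lineG G x r ⊆ K := by
  have a1 := sum_nbZ hG K
  have a2 := sum_nbZ_sq hG hc
  rw [hK] at a1 a2
  have a3 : ∀ z ∉ K, nbZ G K z = 6 := fun z hz => by
    have := (sum_eq_zero_iff_of_nonneg (s := univ) (f := fun z => (nbZ G K z - 6) ^ 2 -
      36 * if z ∈ K then 1 else 0) fun z _ => by
        split_ifs with h
        · rw [nbZ_eq_zero.mpr (hc z h)]; norm_num
        · simpa using sq_nonneg _).mp (by
      simp only [show ∀ a : ℤ, (a - 6) ^ 2 = a * a - 12 * a + 36 from fun a => by ring, sum_add_distrib,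
        sum_sub_distrib, ← mul_sum, a1, a2, sum_const, card_univ, hG.card, sum_boole, filter_mem_eq_inter,
        univ_inter, hK]
      norm_num) z (mem_univ z)
    simpa [hz, sub_eq_zero] using this
  have a4 : ∀ z, phiZ G K z = 88 * (if z ∈ K then 1 else 0) - 24 := fun z => by
    rw [phiZ_eq, hK]; split_ifs with h
    · rw [nbZ_eq_zero.mpr (hc z h)]; rfl
    · rw [a3 z h]; rfl
  have a5 := hc x hx r hr
  have := thirds_sum hG e a5 K
  rw [sum_congr (s₁ := cnb G x r) rfl fun c h => show phiZ G K c = -24 by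
    rw [a4, if_neg fun h' => hc x hx c h' (mem_cnb.mp h).1]; rfl] at this
  simp only [a4, if_pos hx, if_pos hr, sum_sub_distrib, ← mul_sum, sum_const, srg_cnb hG e a5,
    (thirds_key hG e a5).1, sum_boole] at this
  refine insert_subset hx (insert_subset hr ?_)
  exact fun y hy => filter_card_eq (p := (· ∈ K)) (by
    rw [(thirds_key hG e a5).1]; norm_num at this; omega) y hy

theorem exists_plane {x r z : V} (h1 : x ≠ r) (h2 : ¬ G.Adj x r)
    (hz : z ∉ lineG G x r ∧ nbZ G (lineG G x r) z = 0) : ∃ K : Finset V, (K.card = 21 ∧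
      ∀ u ∈ K, ∀ v ∈ K, ¬ G.Adj u v) ∧ x ∈ K ∧ r ∈ K ∧ z ∈ K ∧ ∀ K' : Finset V, (K'.card = 21 ∧
      ∀ u ∈ K', ∀ v ∈ K', ¬ G.Adj u v) → x ∈ K' → r ∈ K' → z ∈ K' → K' = K := by
  have a1 : ∀ l ∈ lineG G x r, z ≠ l ∧ ¬ G.Adj z l := fun l hl =>
    ⟨fun e => hz.1 (e ▸ hl), nbZ_eq_zero.mp hz.2 l hl⟩
  have a0 : ∀ u v, u ∈ lineG G u v ∧ v ∈ lineG G u v := fun u v => by simp [lineG]
  have a2 : ∀ l ∈ lineG G x r, ∀ l' ∈ lineG G x r, l ≠ l' → ∀ u ∈ (lineG G z l').erase z,
      u ∉ lineG G z l ∧ nbZ G (lineG G z l) u = 0 := fun l hl l' hl' e u hu => by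
    refine far_closed hG (a1 l hl).1 (a1 l hl).2 (a0 z l).1 ⟨fun h => hz.1 ?_, nbZ_eq_zero.mpr fun s hs => ?_⟩
      (lineG_comm (G := G) z l' ▸ mem_of_mem_erase hu) (ne_of_mem_erase hu)
    · rw [← (lineG_eq hG h1 h2 hl hl' e).2, (lineG_eq hG (a1 l hl).1 (a1 l hl).2 (a0 z l).2 h e).2]
      exact (a0 z l).1
    · by_cases e' : s = l
      · exact e' ▸ (lineG_eq hG h1 h2 hl' hl e.symm).1
      · exact fun h => nbZ_eq_zero.mp (far_closed hG h1 h2 hl hz hs e').2 l' hl' h.symm
  have a3 : (insert z ((lineG G x r).biUnion fun l => (lineG G z l).erase z)).card = 21 := by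
    rw [card_insert_of_notMem (by simp), card_biUnion fun l hl l' hl' e => disjoint_left.mpr
      fun u hu hu' => (a2 l hl l' hl' e u hu').1 (mem_of_mem_erase hu), sum_congr rfl fun l hl => by
        rw [card_erase_of_mem (a0 z l).1, card_lineG hG (a1 l hl).1 (a1 l hl).2], sum_const,
      card_lineG hG h1 h2]; rfl
  have a4 : ∀ l ∈ lineG G x r, l ∈ insert z ((lineG G x r).biUnion fun l => (lineG G z l).erase z) :=
    fun l hl => mem_insert_of_mem (mem_biUnion.mpr ⟨l, hl, mem_erase.mpr ⟨(a1 l hl).1.symm, (a0 z l).2⟩⟩)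
  refine ⟨_, ⟨a3, fun u hu v hv h => ?_⟩, a4 x (a0 x r).1, a4 r (a0 x r).2, mem_insert_self _ _,
    fun K' hK hx hr hz' => (eq_of_subset_of_card_le (insert_subset hz' (biUnion_subset.mpr fun l hl =>
      (erase_subset _ _).trans (plane_closed hG hK.1 hK.2 hz' (plane_closed hG hK.1 hK.2 hx hr h1 hl)
        (a1 l hl).1))) (by rw [a3, hK.1])).symm⟩
  have a5 : ∀ u ∈ insert z ((lineG G x r).biUnion fun l => (lineG G z l).erase z), ¬ G.Adj z u := by
    simp only [mem_insert, mem_biUnion]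
    rintro u (rfl | ⟨l, hl, hu⟩)
    exacts [G.irrefl, (lineG_eq hG (a1 l hl).1 (a1 l hl).2 (a0 z l).1 (mem_of_mem_erase hu)
      (ne_of_mem_erase hu).symm).1]
  rcases mem_insert.mp hu with rfl | hu'
  · exact a5 v hv h
  rcases mem_insert.mp hv with rfl | hv'
  · exact a5 u hu h.symm
  obtain ⟨l, hl, hu⟩ := mem_biUnion.mp hu'
  obtain ⟨l', hl', hv⟩ := mem_biUnion.mp hv'
  by_cases e : l = l'
  · exact (lineG_eq hG (a1 l hl).1 (a1 l hl).2 (mem_of_mem_erase hu) (e ▸ mem_of_mem_erase hv) h.ne).1 h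
  · exact nbZ_eq_zero.mp (a2 l hl l' hl' e v hv).2 u (mem_of_mem_erase hu) h.symm

theorem card_planes {x r : V} (h1 : x ≠ r) (h2 : ¬ G.Adj x r) : (univ.filter fun K : Finset V =>
    (K.card = 21 ∧ ∀ u ∈ K, ∀ v ∈ K, ¬ G.Adj u v) ∧ x ∈ K ∧ r ∈ K).card = 2 := by
  have a1 : (univ.filter fun z => z ∉ lineG G x r ∧ nbZ G (lineG G x r) z = 0).card = 32 := by
    have := sum_nbZ hG (lineG G x r)
    rw [sum_congr rfl fun z _ => show nbZ G (lineG G x r) z = 2 - 2 * (if z ∈ lineG G x r then 1 else 0) -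
      2 * (if z ∉ lineG G x r ∧ nbZ G (lineG G x r) z = 0 then 1 else 0) by
        by_cases h : nbZ G (lineG G x r) z = 0
        · by_cases h' : z ∈ lineG G x r <;> simp [h, h']
        · obtain ⟨l, hl, h3⟩ : ∃ l ∈ lineG G x r, G.Adj z l := by simpa [nbZ_eq_zero] using h
          simp [nbZ_lineG hG h1 h2 hl h3.symm, show z ∉ lineG G x r from fun h' =>
            (lineG_eq hG h1 h2 h' hl h3.ne).1 h3]] at this
    simp only [sum_sub_distrib, ← mul_sum, sum_boole, sum_const, card_univ, hG.card, filter_mem_eq_inter,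
      univ_inter, card_lineG hG h1 h2] at this
    norm_num at this ⊢; omega
  have := card_mul_eq_card_mul (s := univ.filter fun K : Finset V =>
    (K.card = 21 ∧ ∀ u ∈ K, ∀ v ∈ K, ¬ G.Adj u v) ∧ x ∈ K ∧ r ∈ K)
    (t := univ.filter fun z => z ∉ lineG G x r ∧ nbZ G (lineG G x r) z = 0) (fun K z => z ∈ K)
    (m := 16) (n := 1) (fun K hK => by
      obtain ⟨hK, hx, hr⟩ := (mem_filter.mp hK).2
      have h3 := plane_closed hG hK.1 hK.2 hx hr h1
      rw [show bipartiteAbove _ _ K = K \ lineG G x r from ext fun z => by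
        simp only [mem_bipartiteAbove, mem_filter, mem_univ, true_and, mem_sdiff, nbZ_eq_zero]
        exact ⟨fun h => ⟨h.2, h.1.1⟩, fun h => ⟨⟨h.2, fun s hs => hK.2 z h.1 s (h3 hs)⟩, h.1⟩⟩,
        card_sdiff_of_subset h3, hK.1, card_lineG hG h1 h2]) fun z hz => by
      obtain ⟨K, b1, b2, b3, b4, b5⟩ := exists_plane hG h1 h2 (mem_filter.mp hz).2
      refine card_eq_one.mpr ⟨K, eq_singleton_iff_unique_mem.mpr ⟨by simp [b1.1, b2, b3, b4]; exact b1.2,
        fun K' h => ?_⟩⟩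
      simp only [mem_bipartiteBelow, mem_filter, mem_univ, true_and] at h
      exact b5 K' h.1.1 h.1.2.1 h.1.2.2 h.2
  omega

theorem srg_m22_rows : ∃ c : Coding V, c.n = 77 ∧ Rows c G m22Row := by
  let α := {K : Finset V // K.card = 21 ∧ ∀ u ∈ K, ∀ v ∈ K, ¬ G.Adj u v}
  let ν : V → Finset α := fun v => univ.filter fun K => v ∈ K.1
  have h2 : ∀ u v, u ≠ v → (ν u ∩ ν v).card = if G.Adj u v then 0 else 2 := fun u v e => by
    split_ifs with h
    · exact card_eq_zero.mpr (eq_empty_of_forall_notMem fun K hK => by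
        simp only [ν, mem_inter, mem_filter, mem_univ, true_and] at hK
        exact K.2.2 u hK.1 v hK.2 h)
    · rw [← card_planes hG e h, ← card_map (Function.Embedding.subtype _)]
      congr 1; ext K; simp [ν, α, and_comm, and_assoc]
  have h6 : ∀ v, (ν v).card = 6 := fun v => by
    have := card_mul_eq_card_mul (s := ν v) (t := (insert v (G.neighborFinset v))ᶜ) (fun K w => w ∈ K.1)
      (m := 20) (n := 2) (fun K hK => by
        have hK := (mem_filter.mp hK).2
        rw [show bipartiteAbove _ _ K = K.1.erase v from ext fun z => by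
          simp only [mem_bipartiteAbove, mem_compl, mem_insert, SimpleGraph.mem_neighborFinset, not_or,
            mem_erase]
          exact ⟨fun h => ⟨h.1.1, h.2⟩, fun h => ⟨⟨h.1, K.2.2 v hK z h.2⟩, h.2⟩⟩,
          card_erase_of_mem hK, K.2.1]) fun w hw => by
        simp only [mem_compl, mem_insert, SimpleGraph.mem_neighborFinset, not_or] at hw
        have := h2 v w (Ne.symm hw.1)
        rw [if_neg hw.2] at this
        rw [← this]; congr 1; ext; simp [ν]
    rw [card_compl, card_insert_of_notMem (by simp), hG.card, SimpleGraph.card_neighborFinset_eq_degree,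
      hG.regular v] at this
    omega
  have hα : Fintype.card α = 22 := by
    have := card_mul_eq_card_mul (s := (univ : Finset α)) (t := (univ : Finset V))
      (fun (K : α) w => w ∈ K.1) (m := 21) (n := 6) (fun K _ => (congrArg card (by ext; simp)).trans K.2.1)
      fun w _ => h6 w
    rw [card_univ, card_univ, hG.card] at this
    omega
  have hi : Function.Injective ν := fun u v e => by
    by_contra h
    have := h2 u v h
    rw [e, inter_self, h6 v] at this
    split_ifs at this <;> omega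
  refine exists_m22_rows hα (B := Set.range ν) (steiner_of_packing (by rintro _ ⟨v, rfl⟩; exact h6 v)
    (by
      rintro _ ⟨u, rfl⟩ _ ⟨v, rfl⟩ h
      by_contra e
      rw [h2 u v fun e' => e (by rw [e'])] at h
      split_ifs at h <;> omega) (by
      rw [Set.ncard_range_of_injective hi, Nat.card_eq_fintype_card, hG.card, hα]; decide)) hi
    (fun _ => Iff.rfl) fun u v => ?_
  rw [disjoint_iff_inter_eq_empty, ← card_eq_zero]
  by_cases e : u = v
  · simp [e, h6, -card_eq_zero]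
  · simp [h2 u v e]

end m22

end Cfsg.Lib.Golay
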